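import Cfsg.Agent.Lib.Leech.Co1Simple
import Cfsg.Agent.Lib.Leech.PointStab
import Cfsg.Prelude.Def_Spor_Conway

/-!
The monomial group modulo the centre: the elementary abelian part, the complement isomorphic to
the code group, and the centraliser of an element of order 23.
-/

set_option autoImplicit false

namespace Cfsg.Agent.Lib.LeechMod2.Frame

open Cfsg Cfsg.Agent.Lib.Leech
open scoped symmDiff

/-- The elements acting on each axis by a sign. -/
def diag : Subgroup Co0 where
  carrier := {g | ∀ i, g • eightE i = eightE i ∨ g • eightE i = -eightE i}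
  one_mem' := fun i => Or.inl (one_smul _ _)
  mul_mem' := fun {g h} hg hh i => by
    rcases hh i with h1 | h1 <;> rcases hg i with h2 | h2 <;>
      simp [mul_smul, h1, h2, smul_neg']
  inv_mem' := fun {g} hg i => by
    rcases hg i with h | h
    · exact Or.inl (inv_smul_eq_iff.mpr h.symm)
    · exact Or.inr (inv_smul_eq_iff.mpr (by rw [smul_neg', h, neg_neg]))

theorem flip_mem_diag (c : Finset GolayPt) (hc : IsCode c) : flip c hc ∈ diag := by
  intro i
  show monomial 1 _ c hc • eightE i = _ ∨ monomial 1 _ c hc • eightE i = _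
  rw [monomial_apply_eightE, Equiv.Perm.one_apply]
  split_ifs
  · exact Or.inr rfl
  · exact Or.inl rfl

theorem mem_diag_iff {g : Co0} : g ∈ diag ↔ ∃ c, ∃ hc : IsCode c, g = flip c hc :=
  ⟨fun h => eq_flip_of_axes h, by rintro ⟨c, hc, rfl⟩; exact flip_mem_diag c hc⟩

theorem diag_le_cross : diag ≤ crossGroup := fun _ h i => ⟨i, h i⟩

theorem center_le_diag : Subgroup.center Co0 ≤ diag := by
  intro z hz
  rcases center_co0_eq hz with rfl | rfl
  · exact one_mem _
  · exact flip_mem_diag _ _

theorem mul_self_of_diag {g : Co0} (hg : g ∈ diag) : g * g = 1 := by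
  refine co0_ext fun i => ?_
  rcases hg i with h | h <;> simp [mul_smul, h, smul_neg']

theorem permHom_mem_cross (σ : M24) : permHom σ ∈ crossGroup :=
  fun i => ⟨_, Or.inl (permHom_eightE σ i)⟩

theorem eq_one_of_permHom_mem_diag {σ : M24} (h : permHom σ ∈ diag) : σ = 1 := by
  refine Subtype.ext (Equiv.ext fun i => eightE_inj ?_)
  rw [← permHom_eightE σ i]
  exact h i

theorem exists_split {g : Co0} (hg : g ∈ crossGroup) :
    ∃ d ∈ diag, ∃ σ : M24, g = d * permHom σ := by
  obtain ⟨σ, hσ, c, hc, rfl⟩ := exists_monomial hg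
  refine ⟨flip c hc, flip_mem_diag c hc, ⟨σ, hσ⟩, co0_ext fun i => ?_⟩
  rw [mul_smul, permHom_eightE, monomial_apply_eightE]
  show _ = monomial 1 _ c hc • eightE (σ i)
  rw [monomial_apply_eightE, Equiv.Perm.one_apply]

theorem cross_conj_diag {g d : Co0} (hg : g ∈ crossGroup) (hd : d ∈ diag) :
    g * d * g⁻¹ ∈ diag := by
  intro i
  obtain ⟨j, hj⟩ := (inv_mem hg : g⁻¹ ∈ crossGroup) i
  have hgj : g • eightE j = eightE i ∨ g • eightE j = -eightE i := by
    rcases hj with h | h
    · exact Or.inl (by rw [← h, smul_inv_smul])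
    · refine Or.inr ?_
      have := congrArg (fun w => g • w) h
      simp only [smul_inv_smul, smul_neg'] at this
      rw [this, neg_neg]
  rcases hj with hj | hj <;> rcases hd j with h | h <;> rcases hgj with h' | h' <;>
    simp [mul_smul, hj, h, h', smul_neg']

theorem card_diag : Nat.card diag = 4096 := by
  let f : {c : Finset GolayPt // IsCode c} → diag := fun c => ⟨flip c.1 c.2, flip_mem_diag c.1 c.2⟩
  have hf : Function.Bijective f := by
    refine ⟨fun c d h => ?_, ?_⟩
    · have h1 : Leech.monomialMap ((1 : M24), c) = Leech.monomialMap ((1 : M24), d) :=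
        Subtype.ext (congrArg Subtype.val h : _)
      exact congrArg Prod.snd (Leech.monomialMap_bijective.1 h1)
    · rintro ⟨g, hg⟩
      obtain ⟨c, hc, rfl⟩ := mem_diag_iff.mp hg
      exact ⟨⟨c, hc⟩, rfl⟩
  rw [← Nat.card_eq_of_bijective _ hf,
    Nat.card_congr (Equiv.subtypeEquivRight fun c => (GolayUnique.mem_golaySets (s := c)).symm),
    Nat.card_eq_finsetCard, GolayUnique.card_golaySets]

/-- Reduction modulo the centre. -/
def bar : Co0 →* Spor.Co1 := QuotientGroup.mk' (Subgroup.center Co0)

theorem bar_surjective : Function.Surjective bar := QuotientGroup.mk'_surjective _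

theorem ker_bar : bar.ker = Subgroup.center Co0 := QuotientGroup.ker_mk' _

theorem bar_eq_one {g : Co0} : bar g = 1 ↔ g ∈ Subgroup.center Co0 := QuotientGroup.eq_one_iff g

/-- The image of `diag`. -/
def diagBar : Subgroup Spor.Co1 := diag.map bar

theorem card_diagBar : Nat.card diagBar = 2048 := by
  have h1 : Nat.card diagBar * 2 = 4096 := by
    have e : (Subgroup.center Co0).relIndex diag = Nat.card diagBar := by
      rw [diagBar, ← Subgroup.relIndex_ker, ker_bar]
    have e2 := Subgroup.relIndex_mul_relIndex ⊥ (Subgroup.center Co0) diag bot_le center_le_diag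
    rw [Subgroup.relIndex_bot_left, Subgroup.relIndex_bot_left, card_diag, card_center, e] at e2
    omega
  omega

theorem diagBar_elem {x : Spor.Co1} (hx : x ∈ diagBar) : x * x = 1 := by
  obtain ⟨g, hg, rfl⟩ := hx
  rw [← map_mul, mul_self_of_diag hg, map_one]

theorem diagBar_comm {x y : Spor.Co1} (hx : x ∈ diagBar) (hy : y ∈ diagBar) : x * y = y * x := by
  have h := diagBar_elem (mul_mem hx hy)
  have hx2 := diagBar_elem hx
  have hy2 := diagBar_elem hy
  calc x * y = (x * y)⁻¹ := eq_inv_of_mul_eq_one_left h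
    _ = y⁻¹ * x⁻¹ := mul_inv_rev x y
    _ = y * x := by rw [← eq_inv_of_mul_eq_one_left hx2, ← eq_inv_of_mul_eq_one_left hy2]

/-- The complement in the image of the monomial group. -/
noncomputable def permBar : M24 →* Spor.Co1 := bar.comp permHom

theorem eq_one_of_permBar_mem {σ : M24} (h : permBar σ ∈ diagBar) : σ = 1 := by
  obtain ⟨d, hd, hde⟩ := h
  refine eq_one_of_permHom_mem_diag ?_
  have hc : d⁻¹ * permHom σ ∈ Subgroup.center Co0 := by
    rw [← bar_eq_one, map_mul, map_inv, hde]
    exact inv_mul_cancel _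
  have := mul_mem hd (center_le_diag hc)
  rwa [mul_inv_cancel_left] at this

theorem permBar_injective : Function.Injective permBar := by
  rw [← MonoidHom.ker_eq_bot_iff, eq_bot_iff]
  intro σ hσ
  rw [MonoidHom.mem_ker] at hσ
  exact Subgroup.mem_bot.mpr (eq_one_of_permBar_mem (hσ ▸ one_mem _))

theorem sup_eq : diagBar ⊔ permBar.range = crossGroup.map bar := by
  refine le_antisymm (sup_le (Subgroup.map_mono diag_le_cross) ?_) ?_
  · rintro _ ⟨σ, rfl⟩
    exact ⟨_, permHom_mem_cross σ, rfl⟩
  · rintro _ ⟨g, hg, rfl⟩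
    obtain ⟨d, hd, σ, rfl⟩ := exists_split hg
    rw [map_mul]
    exact Subgroup.mul_mem_sup ⟨d, hd, rfl⟩ ⟨σ, rfl⟩

theorem inf_eq : diagBar ⊓ permBar.range = ⊥ := by
  rw [eq_bot_iff]
  rintro _ ⟨h, σ, rfl⟩
  rw [eq_one_of_permBar_mem h, map_one]
  exact one_mem _

/-- A two-subgroup normalised by the monomial group inside it is diagonal. -/
theorem le_diag (N : Subgroup Co0) (hN : N ≤ crossGroup) (hp : IsPGroup 2 N)
    (hnorm : ∀ g ∈ crossGroup, ∀ n ∈ N, g * n * g⁻¹ ∈ N) : N ≤ diag := by
  have hDp : IsPGroup 2 diag := IsPGroup.of_card (n := 12) (by rw [card_diag]; norm_num)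
  have hle : N ≤ Subgroup.normalizer (diag : Set Co0) := by
    intro n hn
    rw [Subgroup.mem_normalizer_iff]
    intro d
    refine ⟨fun hd => cross_conj_diag (hN hn) hd, fun hd => ?_⟩
    have := cross_conj_diag (inv_mem (hN hn)) hd
    simpa [mul_assoc] using this
  have hsup : IsPGroup 2 ↥(N ⊔ diag) := hp.to_sup_of_normal_right' hDp hle
  let M : Subgroup M24 := (N ⊔ diag).comap permHom
  have hMp : IsPGroup 2 M := hsup.comap_of_injective permHom permHom_injective
  have hMn : M.Normal := by
    refine ⟨fun m hm σ => ?_⟩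
    have hconj : N ⊔ diag ≤ (N ⊔ diag).comap (MulAut.conj (permHom σ)).toMonoidHom := by
      refine sup_le (fun n hn => ?_) (fun d hd => ?_)
      · exact Subgroup.mem_sup_left (hnorm _ (permHom_mem_cross σ) n hn)
      · exact Subgroup.mem_sup_right (cross_conj_diag (permHom_mem_cross σ) hd)
    have := hconj hm
    show permHom (σ * m * σ⁻¹) ∈ N ⊔ diag
    rw [map_mul, map_mul, map_inv]
    exact this
  have := Golay.isSimple_M24
  have hbot : M = ⊥ := by
    rcases hMn.eq_bot_or_eq_top with h | h
    · exact h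
    · exfalso
      have : Fact (Nat.Prime 2) := ⟨Nat.prime_two⟩
      obtain ⟨n, hn⟩ := hMp.exists_card_eq
      rw [h, Subgroup.card_top, Golay.card_M24] at hn
      have : (3 : ℕ) ∣ 2 := Nat.prime_three.dvd_of_dvd_pow (hn ▸ (by norm_num : (3 : ℕ) ∣ 244823040))
      norm_num at this
  intro g hg
  obtain ⟨d, hd, σ, rfl⟩ := exists_split (hN hg)
  have hσ : σ ∈ M := by
    show permHom σ ∈ N ⊔ diag
    have := mul_mem (Subgroup.mem_sup_right (S := N) (inv_mem hd)) (Subgroup.mem_sup_left hg)
    rwa [inv_mul_cancel_left] at this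
  rw [hbot, Subgroup.mem_bot] at hσ
  rw [hσ, map_one, mul_one]
  exact hd

/-- Only the identity squares to one and commutes with the class of the shift. -/
theorem eq_one_of_commute_shift {x : Spor.Co1} (h2 : x * x = 1)
    (hc : x * bar shiftElt = bar shiftElt * x) : x = 1 := by
  obtain ⟨g, rfl⟩ := bar_surjective x
  have hx23 : shiftElt ^ 23 = 1 := orderOf_shiftElt ▸ pow_orderOf_eq_one shiftElt
  have hcomm : g * shiftElt = shiftElt * g := by
    have hz : g * shiftElt * g⁻¹ * shiftElt⁻¹ ∈ Subgroup.center Co0 := by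
      rw [← bar_eq_one, map_mul, map_mul, map_mul, map_inv, map_inv, hc]
      group
    rcases center_co0_eq hz with h | h
    · calc g * shiftElt = g * shiftElt * g⁻¹ * shiftElt⁻¹ * (shiftElt * g) := by group
        _ = shiftElt * g := by rw [h, one_mul]
    · exfalso
      have e : g * shiftElt * g⁻¹ = negOne * shiftElt := by rw [← h]; group
      have e' := congrArg (fun y : Co0 => y ^ 23) e
      simp only [conj_pow] at e'
      rw [Commute.mul_pow (show Commute negOne shiftElt from
        (Subgroup.mem_center_iff.mp negOne_mem_center shiftElt).symm), hx23] at e'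
      have hn2 : negOne ^ 2 = 1 := by
        rw [pow_two]; exact mul_self_of_diag (center_le_diag negOne_mem_center)
      rw [show (23 : ℕ) = 2 * 11 + 1 from rfl, pow_succ, pow_mul, hn2] at e'
      simp at e'
      exact negOne_ne_one e'.symm
  -- the fixed vector of norm 32 goes to itself up to sign
  have hw : g • oddTop (-3) (Or.inr rfl) = oddTop (-3) (Or.inr rfl) ∨
      g • oddTop (-3) (Or.inr rfl) = -oddTop (-3) (Or.inr rfl) := by
    set w := g • oddTop (-3) (Or.inr rfl) with hwdef
    have hfixtop : shiftElt • oddTop (-3) (Or.inr rfl) = oddTop (-3) (Or.inr rfl) :=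
      m23Elts_le (Or.inr rfl) shiftElt_mem
    have hfix : shiftElt • w = w := by rw [hwdef, ← mul_smul, ← hcomm, mul_smul, hfixtop]
    have hn : sqNorm (vec w) = 32 := by rw [hwdef, norm_smul', sqNorm_oddTop]; norm_num
    have hsum : sqNorm (vec w) = vec w none ^ 2 + 23 * vec w (some 0) ^ 2 := by
      show ∑ i : GolayPt, vec w i ^ 2 = _
      rw [Fintype.sum_option, Finset.sum_congr rfl fun a _ => by rw [eq_of_shift_fixed hfix a],
        Finset.sum_const, Finset.card_univ, ZMod.card, nsmul_eq_mul]
      rfl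
    have hdot : dotInt (vec (oddTop (-3) (Or.inr rfl))) (vec w) =
        -3 * vec w none + 23 * vec w (some 0) := by
      show ∑ i : GolayPt, vec (oddTop (-3) (Or.inr rfl)) i * vec w i = _
      rw [Fintype.sum_option, Finset.sum_congr rfl fun a _ => by rw [eq_of_shift_fixed hfix a]]
      simp [oddTop, vec]
    have hdvd : (8 : ℤ) ∣ dotInt (vec (oddTop (-3) (Or.inr rfl))) (vec w) :=
      dotInt_dvd (oddTop (-3) (Or.inr rfl)).2 w.2
    have ha : -5 ≤ vec w none ∧ vec w none ≤ 5 := by constructor <;> nlinarith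
    have hb : -1 ≤ vec w (some 0) ∧ vec w (some 0) ≤ 1 := by
      constructor <;> nlinarith [sq_nonneg (vec w none)]
    rw [hsum] at hn
    rw [hdot] at hdvd
    have hval : ∀ i, vec w i = if i = none then vec w none else vec w (some 0) := by
      rintro (_ | a)
      · rfl
      · simp [eq_of_shift_fixed hfix a]
    obtain ⟨a, hae⟩ : ∃ a, vec w none = a := ⟨_, rfl⟩
    obtain ⟨b, hbe⟩ : ∃ b, vec w (some 0) = b := ⟨_, rfl⟩
    rw [hae, hbe] at hn hdvd
    rw [hae] at ha
    rw [hbe] at hb
    have hab : (a = -3 ∧ b = 1) ∨ (a = 3 ∧ b = -1) := by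
      obtain ⟨a1, a2⟩ := ha
      obtain ⟨b1, b2⟩ := hb
      interval_cases a <;> interval_cases b <;> omega
    rcases hab with ⟨rfl, rfl⟩ | ⟨rfl, rfl⟩
    · left
      refine Subtype.ext (funext fun i => ?_)
      show vec w i = if i = none then (-3 : ℤ) else 1
      rw [hval i, hae, hbe]
    · right
      refine Subtype.ext (funext fun i => ?_)
      show vec w i = -(if i = none then (-3 : ℤ) else 1)
      rw [hval i, hae, hbe]
      split_ifs <;> rfl
  obtain ⟨g', hg', hbar, hc'⟩ : ∃ g' : Co0, g' • oddTop (-3) (Or.inr rfl) = oddTop (-3) (Or.inr rfl) ∧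
      bar g' = bar g ∧ g' * shiftElt = shiftElt * g' := by
    rcases hw with h | h
    · exact ⟨g, h, rfl, hcomm⟩
    · refine ⟨negOne * g, by rw [mul_smul, h, negOne_smul, neg_neg], ?_, ?_⟩
      · rw [map_mul, bar_eq_one.mpr negOne_mem_center, one_mul]
      · rw [mul_assoc, hcomm, ← mul_assoc, ← Subgroup.mem_center_iff.mp negOne_mem_center shiftElt,
          mul_assoc]
  obtain ⟨σ, hσ, hσe⟩ := normalizer_shift (Or.inr rfl) hg'
    (by rw [hc', mul_inv_cancel_right]; exact Subgroup.mem_zpowers _)
  have hσc : ∀ i, (σ : Equiv.Perm GolayPt) (shift23 i) = shift23 ((σ : Equiv.Perm GolayPt) i) := by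
    intro i
    have h := permHom_injective (a₁ := σ * ⟨shift23, shift23_mem⟩)
      (a₂ := ⟨shift23, shift23_mem⟩ * σ) (by rw [map_mul, map_mul, hσe]; exact hc')
    exact congrArg (fun p : Equiv.Perm GolayPt => p i) (congrArg Subtype.val h)
  obtain ⟨c, hc0⟩ : ∃ c : ZMod 23, (σ : Equiv.Perm GolayPt) (some 0) = some c := by
    rcases h : (σ : Equiv.Perm GolayPt) (some 0) with _ | c
    · exact absurd ((σ : Equiv.Perm GolayPt).injective (h.trans hσ.symm)) (by simp)
    · exact ⟨c, rfl⟩
  have hsome : ∀ n : ℕ, (σ : Equiv.Perm GolayPt) (some (n : ZMod 23)) = some (c + n) := by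
    intro n
    induction n with
    | zero => simpa using hc0
    | succ n ih =>
      rw [Nat.cast_succ, ← shift23_some, hσc, ih, shift23_some, add_assoc]
  have hσ23 : σ ^ 23 = 1 := by
    have hσeq : σ = (⟨shift23, shift23_mem⟩ : M24) ^ c.val := by
      refine Subtype.ext (Equiv.ext fun i => ?_)
      rw [SubgroupClass.coe_pow]
      rcases i with _ | a
      · rw [Equiv.Perm.pow_apply_eq_self_of_apply_eq_self shift23_none]
        exact hσ
      · rw [shift23_pow_some, ← ZMod.natCast_zmod_val a, hsome, ZMod.natCast_zmod_val,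
          ZMod.natCast_zmod_val, add_comm]
    rw [hσeq, ← pow_mul, mul_comm, pow_mul]
    have : (⟨shift23, shift23_mem⟩ : M24) ^ 23 = 1 :=
      Subtype.ext (orderOf_shift23 ▸ pow_orderOf_eq_one shift23)
    rw [this, one_pow]
  have h23 : bar g ^ 23 = 1 := by
    rw [← hbar, ← hσe, ← map_pow, ← map_pow, hσ23, map_one, map_one]
  rw [show (23 : ℕ) = 2 * 11 + 1 from rfl, pow_succ, pow_mul, pow_two, h2, one_pow, one_mul] at h23
  exact h23

theorem card_co1 : Nat.card Spor.Co1 = 4157776806543360000 := card_quotient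

theorem factorization_23 : (Nat.card Spor.Co1).factorization 23 = 1 := by
  rw [card_co1, show (4157776806543360000 : ℕ) = 23 * 180772904632320000 by norm_num,
    Nat.factorization_mul (by norm_num) (by norm_num), Finsupp.add_apply,
    Nat.Prime.factorization_self (by norm_num), Nat.factorization_eq_zero_of_not_dvd (by norm_num)]

/-- No element of order 23 commutes with an element squaring to one other than the identity. -/
theorem eq_one_of_commute_23 {x y : Spor.Co1} (hy : orderOf y = 23) (h2 : x * x = 1)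
    (hc : x * y = y * x) : x = 1 := by
  have : Fact (Nat.Prime 23) := ⟨by norm_num⟩
  have : Finite Spor.Co1 := Nat.finite_of_card_ne_zero (by rw [card_co1]; norm_num)
  have hs : orderOf (bar shiftElt) = 23 := by
    refine orderOf_eq_prime ?_ ?_
    · rw [← map_pow, show shiftElt ^ 23 = 1 from orderOf_shiftElt ▸ pow_orderOf_eq_one shiftElt,
        map_one]
    · exact fun h => not_central_of_order23 orderOf_shiftElt (bar_eq_one.mp h)
  let P : Sylow 23 Spor.Co1 := Sylow.ofCard (Subgroup.zpowers y)
    (by rw [Nat.card_zpowers, hy, factorization_23, pow_one])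
  let S : Sylow 23 Spor.Co1 := Sylow.ofCard (Subgroup.zpowers (bar shiftElt))
    (by rw [Nat.card_zpowers, hs, factorization_23, pow_one])
  obtain ⟨c, hcS⟩ := MulAction.exists_smul_eq Spor.Co1 P S
  have hmem : bar shiftElt ∈ (Subgroup.zpowers y).map (MulAut.conj c).toMonoidHom := by
    have h : ((c • P : Sylow 23 Spor.Co1) : Subgroup Spor.Co1) = Subgroup.zpowers (bar shiftElt) := by
      rw [hcS]; rfl
    have h2 : bar shiftElt ∈ ((c • P : Sylow 23 Spor.Co1) : Subgroup Spor.Co1) :=
      h ▸ Subgroup.mem_zpowers _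
    exact h2
  obtain ⟨w, hw, hwe⟩ := hmem
  obtain ⟨n, rfl⟩ := Subgroup.mem_zpowers_iff.mp hw
  have h3 : c * x * c⁻¹ = 1 := eq_one_of_commute_shift
    (by calc c * x * c⁻¹ * (c * x * c⁻¹) = c * (x * x) * c⁻¹ := by group
          _ = 1 := by rw [h2]; group)
    (by
      rw [← hwe]
      simp only [MulEquiv.coe_toMonoidHom, MulAut.conj_apply]
      calc c * x * c⁻¹ * (c * y ^ n * c⁻¹) = c * (x * y ^ n) * c⁻¹ := by group
        _ = c * (y ^ n * x) * c⁻¹ := by rw [(Commute.zpow_right hc n).eq]
        _ = _ := by group)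
  exact conj_eq_one_iff.mp h3

end Cfsg.Agent.Lib.LeechMod2.Frame
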