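import Cfsg.Agent.Lib.Leech.Basic
import Cfsg.Agent.Lib.Golay.Code

/-! Minimal norm of the rank-24 lattice, and vectors constant modulo four. -/

set_option autoImplicit false

namespace Cfsg.Agent.Lib.LeechMod2

open Finset Cfsg.Agent.Lib.Leech

theorem thirtytwo_dvd_of_four {x : GolayPt → ℤ} (h : ∀ i, x i % 4 = 0) (hs : (∑ i, x i) % 8 = 0) :
    (32 : ℤ) ∣ sqNorm x := by
  have h1 : (32 : ℤ) ∣ ∑ i, (x i ^ 2 - 4 * x i) := by
    refine Finset.dvd_sum fun i _ => ?_
    obtain ⟨k, hk⟩ : ∃ k, x i = 4 * k := ⟨x i / 4, by have := h i; omega⟩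
    obtain ⟨r, hr⟩ := Int.even_mul_pred_self k
    exact ⟨r, by rw [hk]; linear_combination 16 * hr⟩
  rw [Finset.sum_sub_distrib, ← Finset.mul_sum] at h1
  simp only [sqNorm]
  omega

theorem thirtytwo_dvd_of_two {x : GolayPt → ℤ} (h : ∀ i, x i % 4 = 2) : (32 : ℤ) ∣ sqNorm x := by
  have h1 : (32 : ℤ) ∣ ∑ i, (x i ^ 2 - 4) := by
    refine Finset.dvd_sum fun i _ => ?_
    obtain ⟨k, hk⟩ : ∃ k, x i = 4 * k + 2 := ⟨x i / 4, by have := h i; omega⟩
    obtain ⟨r, hr⟩ := Int.even_mul_succ_self k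
    exact ⟨r, by rw [hk]; linear_combination 16 * hr⟩
  rw [Finset.sum_sub_distrib, Finset.sum_const, Finset.card_univ, Cfsg.Agent.Lib.Golay.card_golayPt,
    nsmul_eq_mul] at h1
  simp only [sqNorm]
  omega

/-- The lattice has minimal squared length 32. -/
theorem min_norm {x : GolayPt → ℤ} (hx : x ∈ leechLattice) (h0 : x ≠ 0) : 32 ≤ sqNorm x := by
  have hd := Cfsg.Agent.Lib.Leech.sqNorm_dvd hx
  have hpos : 0 < sqNorm x := lt_of_le_of_ne (sqNorm_nonneg x) fun h => h0 (sqNorm_eq_zero.1 h.symm)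
  by_contra hlt
  have h16 : sqNorm x = 16 := by omega
  rcases mem_leech_iff.1 hx with h | h
  · have hc : 4 * ((res 2 x).card : ℤ) ≤ sqNorm x := by
      calc 4 * ((res 2 x).card : ℤ) = ∑ i ∈ res 2 x, 4 := by simp [mul_comm]
        _ ≤ ∑ i ∈ res 2 x, x i ^ 2 := Finset.sum_le_sum fun i hi => by
            rw [mem_res] at hi
            rcases le_or_gt (x i) 0 with hle | hgt
            · nlinarith [show x i ≤ -2 by omega]
            · nlinarith [show 2 ≤ x i by omega]
        _ ≤ sqNorm x := Finset.sum_le_sum_of_subset_of_nonneg (Finset.subset_univ _) fun i _ _ => sq_nonneg _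
    have hempty : res 2 x = ∅ := by
      by_contra hne
      have := Cfsg.Agent.Lib.Golay.eight_le_card h.2.1 (Finset.nonempty_iff_ne_empty.2 hne)
      omega
    have h4 : ∀ i, x i % 4 = 0 := fun i => by
      have := h.1 i
      have : x i % 4 ≠ 2 := fun e => by
        have hm : i ∈ res 2 x := mem_res.2 e
        simp [hempty] at hm
      omega
    have := thirtytwo_dvd_of_four h4 h.2.2
    omega
  · have hc : ∑ _i : GolayPt, (1 : ℤ) ≤ sqNorm x := Finset.sum_le_sum fun i _ => by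
      have := h.1 i
      rcases le_or_gt (x i) 0 with hle | hgt
      · nlinarith [show x i ≤ -1 by omega]
      · nlinarith [show 1 ≤ x i by omega]
    rw [Finset.sum_const, Finset.card_univ, Cfsg.Agent.Lib.Golay.card_golayPt, nsmul_eq_mul] at hc
    omega

end Cfsg.Agent.Lib.LeechMod2
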