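import Cfsg.Agent.Lib.LeechMod2.MonsterPairing
import Cfsg.Agent.Lib.Balance.Locals
import Cfsg.Agent.Lib.SquareMaps.Basic
import Cfsg.Agent.Lib.PGroups.Frattini

/-!
In a group of Monster type, the centraliser of an involution of `Q` not conjugate to `z`, modulo
that involution, is of Baby Monster type.
-/

set_option autoImplicit false

namespace Cfsg.Agent.Lib.LeechMod2.MonsterBaby

open Cfsg Cfsg.Agent.Lib.Leech
open scoped commutatorElement

universe u

local notation "Cen[" z "]" => Subgroup.centralizer ({z} : Set _)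

/-! ### the stabiliser of the pair vector -/

/-- Inclusion of the stabiliser. -/
def incl : Spor.Co2 →* Co0 := Subgroup.inclusion inf_le_left

theorem incl_smul (g : Spor.Co2) (x : leechLattice) : incl g • x = g • x := rfl

theorem incl_fix (g : Spor.Co2) : incl g • Spor.leechU = Spor.leechU := g.2.2

theorem exists_of_fix {g : Co0} (hg : g • Spor.leechU = Spor.leechU) :
    ∃ g' : Spor.Co2, incl g' = g := ⟨⟨g.1, g.2, hg⟩, rfl⟩

theorem U_ne_neg : Spor.leechU ≠ -Spor.leechU := fun h => by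
  have := congrFun (congrArg vec h) none
  simp [vec, Spor.leechU, Spor.vecU] at this

/-- The stabiliser as a subgroup modulo the centre. -/
noncomputable def iota : Spor.Co2 →* Spor.Co1 := Frame.bar.comp incl

theorem iota_injective : Function.Injective iota := by
  rw [← MonoidHom.ker_eq_bot_iff, eq_bot_iff]
  intro g hg
  rw [MonoidHom.mem_ker] at hg
  rcases center_co0_eq (Frame.bar_eq_one.mp hg) with h | h
  · exact Subgroup.mem_bot.mpr ((Subgroup.inclusion_injective _) (h.trans (map_one incl).symm))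
  · exfalso
    have := incl_fix g
    rw [h, negOne_smul] at this
    exact U_ne_neg this.symm

/-- `Spor.Co2` as a point stabiliser. -/
def co2Equiv : Spor.Co2 ≃* MulAction.stabilizer Co0 Spor.leechU where
  toFun g := ⟨incl g, incl_fix g⟩
  invFun g := ⟨g.1.1, g.1.2, g.2⟩
  left_inv _ := rfl
  right_inv _ := rfl
  map_mul' _ _ := rfl

theorem isSimple : IsSimpleGroup Spor.Co2 :=
  haveI := isSimple_co2 MonsterPairing.sqNorm_U
  co2Equiv.isSimpleGroup

theorem card : Nat.card Spor.Co2 = 42305421312000 :=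
  (Nat.card_congr co2Equiv.toEquiv).trans (card_stab32 MonsterPairing.sqNorm_U)

/-- An element of the stabiliser moving the orthogonal module modulo the pair vector. -/
theorem exists_moved : ∃ (g : Spor.Co2) (w : leechLattice),
    (16 : ℤ) ∣ dotInt (vec Spor.leechU) (vec w) ∧
    ¬ (∃ x, g • w - w = x + x) ∧ ¬ ∃ x, g • w - w - Spor.leechU = x + x := by
  classical
  obtain ⟨t, hat, -, htc⟩ := Finset.exists_subsuperset_card_eq (n := 5)
    (Finset.subset_univ ({none, some 0} : Finset GolayPt))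
    (le_trans Finset.card_le_two (by norm_num)) (by rw [Finset.card_univ, card_pt]; norm_num)
  obtain ⟨o, ⟨ho, hto⟩, -⟩ := Golay.octads_steiner.2 t htc
  obtain ⟨hoc, ho8⟩ := mem_octads.mp ho
  have h0 : none ∈ o := hto (hat (by simp))
  have h1 : some 0 ∈ o := hto (hat (by simp))
  obtain ⟨j, hj, hj0, hj1⟩ : ∃ j ∈ o, j ≠ none ∧ j ≠ some 0 := by
    by_contra h
    push Not at h
    have hsub : o ⊆ {none, some 0} := fun j hj => by
      by_cases e : j = none
      · simp [e]
      · simp [h j hj e]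
    have := (Finset.card_le_card hsub).trans Finset.card_le_two
    omega
  obtain ⟨i, hi⟩ : ∃ i, i ∉ o := by
    by_contra hall
    push Not at hall
    rw [Finset.eq_univ_iff_forall.mpr hall, Finset.card_univ, card_pt] at ho8
    omega
  have hij : i ≠ j := fun h => hi (h ▸ hj)
  have hi0 : i ≠ none := fun h => hi (h ▸ h0)
  have hi1 : i ≠ some 0 := fun h => hi (h ▸ h1)
  have hfix : flip oᶜ hoc.compl • Spor.leechU = Spor.leechU := by
    apply Subtype.ext
    funext k
    show vec (flip oᶜ hoc.compl • Spor.leechU) k = Spor.vecU k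
    rw [flip_smul]
    by_cases hk : k ∈ oᶜ
    · rw [if_pos hk]
      have hk' : ¬ (k = none ∨ k = some 0) := by
        rintro (rfl | rfl) <;> simp_all
      simp [vec, Spor.leechU, Spor.vecU, hk']
    · rw [if_neg hk]
      rfl
  obtain ⟨g, hg⟩ := exists_of_fix hfix
  set w : leechLattice := pairVec i j hij with hw
  have hdiff : ∀ k, vec (g • w - w) k = if k = i then -8 else 0 := by
    intro k
    have e : vec (g • w - w) k = vec (flip oᶜ hoc.compl • w) k - vec w k := by
      rw [← hg, incl_smul]; rfl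
    rw [e, flip_smul]
    have hw' : vec w k = if k = i ∨ k = j then 4 else 0 := rfl
    rw [hw']
    rcases eq_or_ne k i with rfl | hki
    · simp [hi]
    · rcases eq_or_ne k j with rfl | hkj
      · simp [hj, hki]
      · simp [hki, hkj]
  refine ⟨g, w, ?_, ?_, ?_⟩
  · rw [MonsterPairing.dot_U]
    simp [hw, pairVec, vec, Ne.symm hi0, Ne.symm hj0, Ne.symm hi1, Ne.symm hj1]
  · rintro ⟨x, hx⟩
    have hxk : ∀ k, vec x k = if k = i then -4 else 0 := fun k => by
      have h2 := hdiff k
      rw [hx] at h2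
      simp only [vec, AddSubgroup.coe_add, Pi.add_apply] at h2 ⊢
      split_ifs at h2 ⊢ <;> omega
    rcases mem_leech_iff.mp x.2 with he | he
    · have h2 := he.2.2
      rw [show (∑ k, (x : GolayPt → ℤ) k) = -4 from
        (Finset.sum_congr rfl fun k _ => hxk k).trans (by simp)] at h2
      norm_num at h2
    · have h2 := he.1 i
      have h3 := hxk i
      simp only [vec, if_pos] at h3
      omega
  · rintro ⟨x, hx⟩
    have hxk : ∀ k, vec x k =
        (if k = i then -4 else 0) - (if k = none ∨ k = some 0 then 2 else 0) := fun k => by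
      have h2 : vec (g • w - w) k - Spor.vecU k = vec x k + vec x k :=
        congrFun (congrArg vec hx) k
      rw [hdiff k] at h2
      simp only [Spor.vecU] at h2
      split_ifs at h2 ⊢ <;> omega
    rcases mem_leech_iff.mp x.2 with he | he
    · have hres : res 2 (vec x) = {none, some 0} := by
        ext k
        rw [mem_res, hxk, Finset.mem_insert, Finset.mem_singleton]
        rcases eq_or_ne k i with rfl | hki
        · simp [hi0, hi1]
        · rw [if_neg hki]
          by_cases hk : k = none ∨ k = some 0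
          · simp [hk]
          · simp [hk]
      have h2 := he.2.1.weights
      rw [show res 2 (x : GolayPt → ℤ) = _ from hres,
        Finset.card_pair (by simp : (none : GolayPt) ≠ some 0)] at h2
      omega
    · have h2 := he.1 none
      have h3 := hxk none
      rw [if_neg (Ne.symm hi0), if_pos (Or.inl rfl)] at h3
      simp only [vec] at h3
      omega

/-! ### the centraliser -/

variable {G : Type u} [Group G] [Finite G] {z : G}
  {Q : Subgroup (Subgroup.centralizer ({z} : Set G))} [Q.Normal]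
  {e : Cen[z] ⧸ Q ≃* Spor.Co1} {ψ : leechLattice → Q ⧸ Subgroup.center Q}

theorem notMem_center (hψ : IsLeechModTwoIso Q e ψ) {qt : Q}
    (hqt : ψ Spor.leechU = QuotientGroup.mk qt) : qt ∉ Subgroup.center Q := fun h =>
  MonsterCore.psi_ne_one hψ (Or.inl MonsterPairing.sqNorm_U)
    (by rw [hqt]; exact (QuotientGroup.eq_one_iff qt).mpr h)

theorem orderOf_qt (hS : IsExtraspecialCentralizerSetting z Q 12) (hψ : IsLeechModTwoIso Q e ψ)
    {qt : Q} (hqt : ψ Spor.leechU = QuotientGroup.mk qt) :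
    orderOf ((qt : Cen[z]) : G) = 2 := by
  haveI : Fact (Nat.Prime 2) := ⟨Nat.prime_two⟩
  have h := (MonsterCore.square_iff hS hψ hqt).mpr (by rw [MonsterPairing.sqNorm_U]; norm_num)
  refine orderOf_eq_prime ?_ fun h1 => notMem_center hψ hqt ?_
  · rw [pow_two]; exact congrArg (fun q : Q => ((q : Cen[z]) : G)) h
  · rw [show qt = 1 from Subtype.ext (Subtype.ext h1)]; exact one_mem _

theorem not_conj_mul (hS : IsExtraspecialCentralizerSetting z Q 12) (hψ : IsLeechModTwoIso Q e ψ)
    {qt : Q} (hqt : ψ Spor.leechU = QuotientGroup.mk qt) :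
    ¬ IsConj z (z * ((qt : Cen[z]) : G)) := by
  have h : ψ Spor.leechU = QuotientGroup.mk (MonsterCore.zQ hS * qt) := by
    rw [QuotientGroup.mk_mul, (QuotientGroup.eq_one_iff _).mpr (MonsterCore.zQ_center hS), one_mul]
    exact hqt
  exact MonsterCore.not_conj_of_min hS hψ MonsterPairing.sqNorm_U h

/-- Some element fixing the involution carries `z` to another element of `Q`. -/
theorem exists_mover (hS : IsExtraspecialCentralizerSetting z Q 12) (hψ : IsLeechModTwoIso Q e ψ)
    {qt : Q} (hqt : ψ Spor.leechU = QuotientGroup.mk qt) :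
    ∃ (g : G) (qs : Q), g * ((qt : Cen[z]) : G) * g⁻¹ = ((qt : Cen[z]) : G) ∧
      g * z * g⁻¹ = ((qs : Cen[z]) : G) ∧ ((qs : Cen[z]) : G) ≠ z := by
  obtain ⟨qs, a, -, ha, hne, htQ⟩ := MonsterPairing.exists_conjugator hS hψ hqt
  obtain ⟨_, ⟨q', hq', rfl⟩, hqe⟩ := htQ
  simp only [MulEquiv.coe_toMonoidHom, MulAut.conj_apply, Subgroup.coe_subtype] at hqe
  have ho : orderOf (q' : G) = 2 := by
    rw [← orderOf_qt hS hψ hqt, ← hqe]
    exact (orderOf_injective (MulAut.conj a).toMonoidHom (MulAut.conj a).injective (q' : G)).symm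
  have hnc : ¬ IsConj z (q' : G) := fun h =>
    MonsterCore.not_conj_of_min hS hψ MonsterPairing.sqNorm_U hqt
      (h.trans (isConj_iff.mpr ⟨a, hqe⟩))
  obtain ⟨v, hv, hvq⟩ := MonsterCore.min_of_not_conj hS hψ ⟨q', hq'⟩ ho hnc
  obtain ⟨h, hh⟩ := MonsterCore.conj_of_shell hS hψ (Or.inl MonsterPairing.sqNorm_U)
    (hv.trans MonsterPairing.sqNorm_U.symm) hqt hvq
  have hh' : (h : G) * ((qt : Cen[z]) : G) * (h : G)⁻¹ = (q' : G) := congrArg Subtype.val hh
  refine ⟨a * h, qs, ?_, ?_, hne⟩
  · calc a * (h : G) * ((qt : Cen[z]) : G) * (a * (h : G))⁻¹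
        = a * ((h : G) * ((qt : Cen[z]) : G) * (h : G)⁻¹) * a⁻¹ := by group
      _ = _ := by rw [hh', hqe]
  · calc a * (h : G) * z * (a * (h : G))⁻¹ = a * ((h : G) * z) * (h : G)⁻¹ * a⁻¹ := by group
      _ = a * (z * (h : G)) * (h : G)⁻¹ * a⁻¹ := by
          rw [Subgroup.mem_centralizer_singleton_iff.mp h.2]
      _ = a * z * a⁻¹ := by group
      _ = _ := ha

theorem mem_zpowers_two {M : Type*} [Group M] {x y : M} (hy : y * y = 1)
    (hx : x ∈ Subgroup.zpowers y) : x = 1 ∨ x = y := by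
  obtain ⟨n, rfl⟩ := Subgroup.mem_zpowers_iff.mp hx
  rcases Int.even_or_odd' n with ⟨k, rfl | rfl⟩
  · left; rw [zpow_mul, zpow_two, hy, one_zpow]
  · right; rw [zpow_add, zpow_mul, zpow_two, hy, one_zpow, one_mul, zpow_one]

/-- The centraliser of `qt` in `C(z)` maps onto the stabiliser of the pair vector. -/
theorem exists_phi (hS : IsExtraspecialCentralizerSetting z Q 12) (hψ : IsLeechModTwoIso Q e ψ)
    {qt : Q} (hqt : ψ Spor.leechU = QuotientGroup.mk qt) :
    ∃ φ : (Subgroup.centralizer ({(qt : Cen[z])} : Set Cen[z])) →* Spor.Co2,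
      Function.Surjective φ ∧
      ∀ k, Frame.bar (incl (φ k)) = e (QuotientGroup.mk (k : Cen[z])) := by
  set CC : Subgroup Cen[z] := Subgroup.centralizer ({(qt : Cen[z])} : Set Cen[z]) with hCC
  let χ : CC →* Spor.Co1 := (e.toMonoidHom.comp (QuotientGroup.mk' Q)).comp CC.subtype
  have hmem : ∀ k : CC, χ k ∈ iota.range := by
    intro k
    obtain ⟨g, hg⟩ := Frame.bar_surjective (χ k)
    have hh := hψ.2.2.2 (k : Cen[z]) g hg _ qt hqt
    have hkq : (k : Cen[z]) * (qt : Cen[z]) = (qt : Cen[z]) * (k : Cen[z]) :=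
      Subgroup.mem_centralizer_singleton_iff.mp k.2
    have hfix : (⟨(k : Cen[z]) * qt * (k : Cen[z])⁻¹,
        (inferInstance : Q.Normal).conj_mem _ qt.2 (k : Cen[z])⟩ : Q) = qt := by
      apply Subtype.ext
      show (k : Cen[z]) * qt * (k : Cen[z])⁻¹ = _
      rw [hkq, mul_inv_cancel_right]
    rw [hfix, ← hqt, MonsterCore.psi_eq_iff hψ] at hh
    obtain ⟨w, hw⟩ := hh
    have hpm : g • Spor.leechU = Spor.leechU ∨ g • Spor.leechU = -Spor.leechU := by
      have hn := MonsterPairing.sqNorm_U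
      generalize Spor.leechU = v at hw hn
      by_contra hcon
      push Not at hcon
      have b1 := sqNorm_ge w.2 (fun e0 => hcon.1 (by
        rw [show w = 0 from Subtype.ext e0, add_zero] at hw
        exact sub_eq_zero.mp hw))
      have b2 := sqNorm_ge (w + v).2 (fun e0 => hcon.2 (by
        rw [eq_neg_of_add_eq_zero_left (show w + v = 0 from Subtype.ext e0)] at hw
        rw [sub_eq_iff_eq_add.mp hw]; abel))
      have e1 : sqNorm (vec (g • v - v)) = 4 * sqNorm (vec w) := by
        rw [hw]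
        simp only [sqNorm, vec, AddSubgroup.coe_add, Pi.add_apply, Finset.mul_sum]
        exact Finset.sum_congr rfl fun i _ => by ring
      have e2 : sqNorm (vec (g • v + v)) = 4 * sqNorm (vec (w + v)) := by
        rw [show g • v + v = (w + v) + (w + v) by rw [sub_eq_iff_eq_add.mp hw]; abel]
        simp only [sqNorm, vec, AddSubgroup.coe_add, Pi.add_apply, Finset.mul_sum]
        exact Finset.sum_congr rfl fun i _ => by ring
      have e3 := sqNorm_add (vec (g • v)) (vec v)
      have e4 := sqNorm_sub (vec (g • v)) (vec v)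
      have e5 := norm_smul' g v
      simp only [vec, AddSubgroup.coe_add, AddSubgroup.coe_sub] at *
      omega
    rcases hpm with h | h
    · obtain ⟨g', rfl⟩ := exists_of_fix h
      exact ⟨g', hg⟩
    · obtain ⟨g', hg'⟩ := exists_of_fix (g := negOne * g)
        (by rw [mul_smul, h, negOne_smul, neg_neg])
      refine ⟨g', ?_⟩
      show Frame.bar (incl g') = _
      rw [hg', map_mul, Frame.bar_eq_one.mpr negOne_mem_center, one_mul, hg]
  let φ : CC →* Spor.Co2 := (MonoidHom.ofInjective iota_injective).symm.toMonoidHom.comp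
    (χ.codRestrict iota.range hmem)
  have hspec : ∀ k, Frame.bar (incl (φ k)) = χ k := fun k =>
    congrArg Subtype.val ((MonoidHom.ofInjective iota_injective).apply_symm_apply ⟨χ k, hmem k⟩)
  refine ⟨φ, fun g => ?_, hspec⟩
  obtain ⟨h, he, hact⟩ := MonsterCore.exists_action hψ (incl g)
  set q' : Q := ⟨h * qt * h⁻¹, (inferInstance : Q.Normal).conj_mem _ qt.2 h⟩
  have hcls : (QuotientGroup.mk q' : Q ⧸ Subgroup.center Q) = QuotientGroup.mk qt := by
    rw [← hact _ qt hqt, incl_fix, hqt]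
  obtain ⟨p, hp⟩ := MonsterCore.conj_center hS (q := q') (fun hmem => notMem_center hψ hqt (by
    have := (QuotientGroup.eq_one_iff q').mpr hmem
    rw [hcls] at this
    exact (QuotientGroup.eq_one_iff qt).mp this)) hcls
  have hk : (p : Cen[z]) * h ∈ CC := by
    rw [hCC, Subgroup.mem_centralizer_singleton_iff]
    have h1 : (p : Cen[z]) * (h * (qt : Cen[z]) * h⁻¹) * (p : Cen[z])⁻¹ = (qt : Cen[z]) :=
      congrArg Subtype.val hp
    calc (p : Cen[z]) * h * (qt : Cen[z])
        = (p : Cen[z]) * (h * (qt : Cen[z]) * h⁻¹) * (p : Cen[z])⁻¹ * ((p : Cen[z]) * h) := by group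
      _ = _ := by rw [h1]
  refine ⟨⟨_, hk⟩, iota_injective ?_⟩
  show Frame.bar (incl (φ _)) = Frame.bar (incl g)
  rw [hspec]
  show e (QuotientGroup.mk ((p : Cen[z]) * h)) = _
  rw [QuotientGroup.mk_mul, (QuotientGroup.eq_one_iff _).mpr p.2, one_mul, he]
  rfl

set_option maxHeartbeats 1600000 in
theorem main (hS : IsExtraspecialCentralizerSetting z Q 12) (hψ : IsLeechModTwoIso Q e ψ)
    {qt : Q} (hqt : ψ Spor.leechU = QuotientGroup.mk qt) {T : G} (hT : ((qt : Cen[z]) : G) = T)
    [((Subgroup.zpowers T).subgroupOf Cen[T]).Normal] :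
    IsOfBabyMonsterType (↥Cen[T] ⧸ (Subgroup.zpowers T).subgroupOf Cen[T]) := by
  classical
  haveI : Fact (Nat.Prime 2) := ⟨Nat.prime_two⟩
  obtain ⟨g, qs, hgT, hgz, hsne⟩ := exists_mover hS hψ hqt
  obtain ⟨⟨hQp, -, hcom⟩, hc2⟩ := hS.2.2.1
  subst hT
  set T : G := ((qt : Cen[z]) : G) with hTdef
  have hT2 : T * T = 1 := by
    have := pow_orderOf_eq_one T
    rwa [orderOf_qt hS hψ hqt, pow_two] at this
  have hT1 : T ≠ 1 := fun h => by
    have := orderOf_qt hS hψ hqt
    rw [← hTdef, h, orderOf_one] at this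
    omega
  have hTz : T ≠ z := fun h => notMem_center hψ hqt
    ((Subtype.ext (Subtype.ext h) : qt = MonsterCore.zQ hS) ▸ MonsterCore.zQ_center hS)
  have hz2 : z * z = 1 := by
    have := pow_orderOf_eq_one z
    rwa [hS.1, pow_two] at this
  have hz1 : z ≠ 1 := fun h => by
    have := hS.1
    rw [h, orderOf_one] at this
    omega
  set N : Subgroup ↥Cen[T] := (Subgroup.zpowers T).subgroupOf Cen[T] with hN
  have hN2 : ∀ x : ↥Cen[T], x ∈ N → (x : G) = 1 ∨ (x : G) = T := fun x hx =>
    mem_zpowers_two hT2 hx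
  have hzT : z * T = T * z := (Subgroup.mem_centralizer_singleton_iff.mp (qt : Cen[z]).2).symm
  have hzH : z ∈ Cen[T] := Subgroup.mem_centralizer_singleton_iff.mpr hzT
  set zb : ↥Cen[T] ⧸ N := QuotientGroup.mk ⟨z, hzH⟩ with hzb
  have hzb1 : zb ≠ 1 := fun h => by
    rcases hN2 _ ((QuotientGroup.eq_one_iff _).mp h) with h1 | h1
    · exact hz1 h1
    · exact hTz h1.symm
  set CC : Subgroup Cen[z] := Subgroup.centralizer ({(qt : Cen[z])} : Set Cen[z]) with hCC
  have hjmem : ∀ k : CC, ((k : Cen[z]) : G) ∈ Cen[T] := fun k =>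
    Subgroup.mem_centralizer_singleton_iff.mpr
      (congrArg Subtype.val (Subgroup.mem_centralizer_singleton_iff.mp k.2))
  let j : CC →* ↥Cen[T] := (Cen[z].subtype.comp CC.subtype).codRestrict Cen[T] hjmem
  have hfmem : ∀ k : CC, QuotientGroup.mk' N (j k) ∈ Subgroup.centralizer ({zb} : Set _) := by
    intro k
    rw [Subgroup.mem_centralizer_singleton_iff]
    show QuotientGroup.mk' N (j k) * QuotientGroup.mk' N ⟨z, hzH⟩ =
      QuotientGroup.mk' N ⟨z, hzH⟩ * QuotientGroup.mk' N (j k)
    rw [← map_mul, ← map_mul]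
    exact congrArg (QuotientGroup.mk' N)
      (Subtype.ext (Subgroup.mem_centralizer_singleton_iff.mp (k : Cen[z]).2))
  let f : CC →* ↥(Subgroup.centralizer ({zb} : Set (↥Cen[T] ⧸ N))) :=
    ((QuotientGroup.mk' N).comp j).codRestrict _ hfmem
  have hf : Function.Surjective f := by
    rintro ⟨b, hb⟩
    obtain ⟨h, rfl⟩ := QuotientGroup.mk_surjective b
    have h1 := Subgroup.mem_centralizer_singleton_iff.mp hb
    rw [hzb, ← QuotientGroup.mk_mul, ← QuotientGroup.mk_mul] at h1
    have h2 := QuotientGroup.eq.mp h1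
    have hzh : (h : G) * z = z * (h : G) := by
      rcases hN2 _ h2 with h3 | h3
      · simp only [Subgroup.coe_mul, InvMemClass.coe_inv] at h3
        exact inv_mul_eq_one.mp h3
      · exfalso
        simp only [Subgroup.coe_mul, InvMemClass.coe_inv] at h3
        refine not_conj_mul hS hψ hqt (isConj_iff.mpr ⟨(h : G)⁻¹, ?_⟩)
        show (h : G)⁻¹ * z * (h : G)⁻¹⁻¹ = z * T
        calc (h : G)⁻¹ * z * (h : G)⁻¹⁻¹ = z * (((h : G) * z)⁻¹ * (z * (h : G))) := by group
          _ = z * T := by rw [h3]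
    have hk : (⟨(h : G), Subgroup.mem_centralizer_singleton_iff.mpr hzh⟩ : Cen[z]) ∈ CC := by
      rw [hCC, Subgroup.mem_centralizer_singleton_iff]
      exact Subtype.ext (Subgroup.mem_centralizer_singleton_iff.mp h.2)
    exact ⟨⟨_, hk⟩, Subtype.ext rfl⟩
  have hkerf : ∀ k : CC, f k = 1 → ((k : Cen[z]) : G) = 1 ∨ ((k : Cen[z]) : G) = T := fun k hk =>
    hN2 (j k) ((QuotientGroup.eq_one_iff _).mp (congrArg Subtype.val hk))
  obtain ⟨φ, hφs, hφ⟩ := exists_phi hS hψ hqt
  have hφker : ∀ k : CC, φ k = 1 ↔ (k : Cen[z]) ∈ Q := by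
    intro k
    constructor
    · intro h
      have h1 := hφ k
      rw [h, map_one, map_one] at h1
      exact (QuotientGroup.eq_one_iff _).mp (e.injective (h1.symm.trans (map_one e).symm))
    · intro h
      refine iota_injective ?_
      show Frame.bar (incl (φ k)) = iota 1
      rw [hφ, (QuotientGroup.eq_one_iff _).mpr h, map_one, map_one]
  set CQ : Subgroup CC := Q.subgroupOf CC with hCQ
  haveI hCQn : CQ.Normal := by rw [hCQ]; exact Subgroup.normal_subgroupOf
  set QB : Subgroup ↥(Subgroup.centralizer ({zb} : Set (↥Cen[T] ⧸ N))) := CQ.map f with hQB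
  haveI hQBn : QB.Normal := hCQn.map f hf
  have hkle : f.ker ≤ φ.ker := by
    intro k hk
    rw [MonoidHom.mem_ker, hφker]
    rcases hkerf k hk with h | h
    · rw [show (k : Cen[z]) = 1 from Subtype.ext h]; exact one_mem _
    · rw [show (k : Cen[z]) = (qt : Cen[z]) from Subtype.ext h]; exact qt.2
  let φb : ↥(Subgroup.centralizer ({zb} : Set (↥Cen[T] ⧸ N))) →* Spor.Co2 :=
    f.liftOfSurjective hf ⟨φ, hkle⟩
  have hφb : ∀ k, φb (f k) = φ k := fun k =>
    MonoidHom.liftOfRightInverse_comp_apply _ _ _ ⟨φ, hkle⟩ k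
  have hφbs : Function.Surjective φb := fun y => by
    obtain ⟨k, rfl⟩ := hφs y
    exact ⟨f k, hφb k⟩
  have hφbker : φb.ker = QB := by
    ext b
    obtain ⟨k, rfl⟩ := hf b
    rw [MonoidHom.mem_ker, hφb, hφker]
    constructor
    · intro h; exact ⟨k, h, rfl⟩
    · rintro ⟨k', hk', he'⟩
      rw [← hφker, ← hφb, ← he', hφb, hφker]
      exact hk'
  let e' : ↥(Subgroup.centralizer ({zb} : Set (↥Cen[T] ⧸ N))) ⧸ QB ≃* Spor.Co2 :=
    (QuotientGroup.quotientMulEquivOfEq hφbker.symm).trans
      (QuotientGroup.quotientKerEquivOfSurjective φb hφbs)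
  -- the map on the centraliser of `qt` in `Q`
  set P : Subgroup Q := Subgroup.centralizer ({qt} : Set Q) with hP
  have hPCC : ∀ x : P, ((x : Q) : Cen[z]) ∈ CC := fun x =>
    Subgroup.mem_centralizer_singleton_iff.mpr
      (congrArg Subtype.val (Subgroup.mem_centralizer_singleton_iff.mp x.2))
  let θ : P →* QB := ((f.comp ((Q.subtype.comp P.subtype).codRestrict CC hPCC))).codRestrict QB
    fun x => ⟨_, (x : Q).2, rfl⟩
  have hθ : ∀ x : P, ((θ x : ↥(Subgroup.centralizer ({zb} : Set (↥Cen[T] ⧸ N))))) =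
      f ⟨_, hPCC x⟩ := fun x => rfl
  have hθs : Function.Surjective θ := by
    rintro ⟨_, k, hk, rfl⟩
    have hkP : (⟨(k : Cen[z]), hk⟩ : Q) ∈ P := Subgroup.mem_centralizer_singleton_iff.mpr
      (Subtype.ext (Subgroup.mem_centralizer_singleton_iff.mp k.2))
    exact ⟨⟨_, hkP⟩, Subtype.ext rfl⟩
  have hθker : ∀ x : P, θ x = 1 ↔ (x : Q) = 1 ∨ (x : Q) = qt := by
    intro x
    constructor
    · intro h
      rcases hkerf ⟨_, hPCC x⟩ (congrArg Subtype.val h) with h1 | h1
      · exact Or.inl (Subtype.ext (Subtype.ext h1))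
      · exact Or.inr (Subtype.ext (Subtype.ext h1))
    · intro h
      refine Subtype.ext (Subtype.ext ((QuotientGroup.eq_one_iff _).mpr ?_))
      show (((x : Q) : Cen[z]) : G) ∈ Subgroup.zpowers T
      rcases h with h | h <;> rw [h]
      · exact one_mem _
      · exact Subgroup.mem_zpowers _
  have hzP : MonsterCore.zQ hS ∈ P := Subgroup.mem_centralizer_singleton_iff.mpr
    (Subgroup.mem_center_iff.mp (MonsterCore.zQ_center hS) qt).symm
  set zB : QB := θ ⟨MonsterCore.zQ hS, hzP⟩ with hzBdef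
  have hzB : (((zB : ↥(Subgroup.centralizer ({zb} : Set (↥Cen[T] ⧸ N))))) : ↥Cen[T] ⧸ N) = zb :=
    rfl
  have hzB1 : zB ≠ 1 := fun h => hzb1 (hzB.symm.trans (congrArg (fun b : QB =>
    (((b : ↥(Subgroup.centralizer ({zb} : Set (↥Cen[T] ⧸ N))))) : ↥Cen[T] ⧸ N)) h))
  have hzB2 : zB * zB = 1 := by
    rw [hzBdef, ← map_mul, hθker]
    exact Or.inl (Subtype.ext (Subtype.ext hz2))
  have hθcen : ∀ x : P, (x : Q) ∈ Subgroup.center Q → θ x = 1 ∨ θ x = zB := by
    intro x hx
    rcases MonsterCore.center_cases hS hx with h | h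
    · exact Or.inl ((hθker x).mpr (Or.inl h))
    · exact Or.inr (congrArg θ (Subtype.ext h))
  -- index two
  have hkk2 : ∀ p r : Q, ¬ Commute p qt → ¬ Commute r qt → Commute (p * r) qt := by
    intro p r hp hr
    rw [← MonsterCore.kk_eq_one, S5408.kk_mul hcom,
      MonsterCore.card_center_two_cases hc2 (S5408.kk_mem hcom p qt) (S5408.kk_mem hcom r qt)
        (fun h => hp (MonsterCore.kk_eq_one.mp h)) (fun h => hr (MonsterCore.kk_eq_one.mp h))]
    have h := pow_card_eq_one' (x := (⟨_, S5408.kk_mem hcom r qt⟩ : Subgroup.center Q))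
    rw [hc2, pow_two] at h
    exact congrArg Subtype.val h
  have hPidx : P.index = 2 := by
    obtain ⟨r, hr⟩ : ∃ r : Q, ¬ Commute r qt := by
      by_contra h
      push Not at h
      exact notMem_center hψ hqt (Subgroup.mem_center_iff.mpr fun r => (h r).eq)
    rw [Subgroup.index_eq_two_iff]
    refine ⟨r, fun b => ?_⟩
    rw [hP, Subgroup.mem_centralizer_singleton_iff, Subgroup.mem_centralizer_singleton_iff]
    by_cases hb : Commute b qt
    · refine Or.inr ⟨hb.eq, fun h => hr ?_⟩
      have h2 : Commute (b * r) qt := h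
      have := hb.inv_left.mul_left h2
      rwa [inv_mul_cancel_left] at this
    · exact Or.inl ⟨(hkk2 b r hb hr).eq, hb⟩
  have hPcard : Nat.card P = 2 ^ 24 := by
    have h := Subgroup.card_mul_index P
    rw [hPidx, hS.2.2.2.1] at h
    norm_num at h ⊢
    omega
  have hQBcard : Nat.card QB = 2 ^ (2 * 11 + 1) := by
    have h1 := Subgroup.card_mul_index θ.ker
    rw [Subgroup.index_ker, MonoidHom.range_eq_top.mpr hθs, Subgroup.card_top, hPcard] at h1
    have h2 : Nat.card θ.ker = 2 := by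
      rw [Nat.card_eq_two_iff' 1]
      have hqP : qt ∈ P := Subgroup.mem_centralizer_singleton_iff.mpr rfl
      refine ⟨⟨⟨qt, hqP⟩, (hθker _).mpr (Or.inr rfl)⟩, fun h => hT1 ?_, ?_⟩
      · exact congrArg (fun x : θ.ker => ((((x : P) : Q) : Cen[z]) : G)) h
      · intro y hy
        rcases (hθker y).mp y.2 with h | h
        · exact absurd (Subtype.ext (Subtype.ext h)) hy
        · exact Subtype.ext (Subtype.ext h)
    rw [h2] at h1
    norm_num at h1 ⊢
    omega
  -- the centre
  have hzBc : zB ∈ Subgroup.center QB := by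
    rw [Subgroup.mem_center_iff]
    intro b
    obtain ⟨x, rfl⟩ := hθs b
    rw [hzBdef, ← map_mul, ← map_mul]
    exact congrArg θ (Subtype.ext (Subgroup.mem_center_iff.mp (MonsterCore.zQ_center hS) x))
  have hcenQ : ∀ x : P, θ x ∈ Subgroup.center QB →
      (x : Q) ∈ Subgroup.center Q ∨ (x : Q) * qt ∈ Subgroup.center Q := by
    intro x hx
    refine MonsterPairing.cases_of_centralizes hcom hc2 (fun p hp => ?_) hkk2
    have hpP : p ∈ P := Subgroup.mem_centralizer_singleton_iff.mpr hp.eq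
    have h1 := Subgroup.mem_center_iff.mp hx (θ ⟨p, hpP⟩)
    rw [← map_mul, ← map_mul] at h1
    have h2 : θ ((x * ⟨p, hpP⟩)⁻¹ * (⟨p, hpP⟩ * x)) = 1 := by
      rw [map_mul, map_inv, h1, inv_mul_cancel]
    rcases (hθker _).mp h2 with h3 | h3
    · simp only [Subgroup.coe_mul, InvMemClass.coe_inv] at h3
      exact (inv_mul_eq_one.mp h3).symm
    · exfalso
      refine notMem_center hψ hqt ?_
      simp only [Subgroup.coe_mul, InvMemClass.coe_inv] at h3
      rw [← h3, show ((x : Q) * p)⁻¹ * (p * (x : Q)) = S5408.kk (x : Q) p by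
        simp only [S5408.kk]; group]
      exact S5408.kk_mem hcom _ _
  have hqP : qt ∈ P := Subgroup.mem_centralizer_singleton_iff.mpr rfl
  have hθqt : θ ⟨qt, hqP⟩ = 1 := (hθker _).mpr (Or.inr rfl)
  have hcentre : ∀ b : QB, b ∈ Subgroup.center QB ↔ b = 1 ∨ b = zB := by
    intro b
    constructor
    · intro hb
      obtain ⟨x, rfl⟩ := hθs b
      rcases hcenQ x hb with h | h
      · exact hθcen x h
      · have h1 := hθcen (x * ⟨qt, hqP⟩) h
        rwa [map_mul, hθqt, mul_one] at h1
    · rintro (rfl | rfl)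
      · exact one_mem _
      · exact hzBc
  have hcen2 : Nat.card (Subgroup.center QB) = 2 := by
    rw [Nat.card_eq_two_iff' 1]
    refine ⟨⟨zB, hzBc⟩, fun h => hzB1 (congrArg Subtype.val h), fun y hy => ?_⟩
    rcases (hcentre y).mp y.2 with h | h
    · exact absurd (Subtype.ext h) hy
    · exact Subtype.ext h
  have hcomB : commutator QB = Subgroup.center QB := by
    refine le_antisymm ?_ ?_
    · rw [commutator_def, Subgroup.commutator_le]
      intro a _ b _
      obtain ⟨x, rfl⟩ := hθs a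
      obtain ⟨y, rfl⟩ := hθs b
      rw [← map_commutatorElement, hcentre]
      refine hθcen _ ?_
      rw [← hcom]
      have := Subgroup.commutator_mem_commutator (Subgroup.mem_top (x : Q))
        (Subgroup.mem_top (y : Q))
      simpa [commutatorElement_def, commutator_def] using this
    · obtain ⟨x, y, hxy⟩ : ∃ x y : P, ¬ Commute (x : Q) (y : Q) := by
        by_contra hall
        push Not at hall
        have h := MonsterCore.card_sq_le hcom hc2 P (fun a ha b hb => hall ⟨a, ha⟩ ⟨b, hb⟩)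
        rw [hS.2.2.2.1, hPcard] at h
        norm_num at h
      have hmem : ⁅θ x, θ y⁆ ∈ commutator QB :=
        Subgroup.commutator_mem_commutator (Subgroup.mem_top _) (Subgroup.mem_top _)
      have hne : ⁅θ x, θ y⁆ ≠ 1 := by
        intro h
        rw [← map_commutatorElement, hθker] at h
        rcases h with h | h
        · exact hxy (commutatorElement_eq_one_iff_mul_comm.mp (by
            simpa [commutatorElement_def] using h))
        · refine notMem_center hψ hqt ?_
          rw [← h, ← hcom]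
          have := Subgroup.commutator_mem_commutator (Subgroup.mem_top (x : Q))
            (Subgroup.mem_top (y : Q))
          simpa [commutatorElement_def, commutator_def] using this
      have heq : ⁅θ x, θ y⁆ = zB := by
        have hc : ⁅θ x, θ y⁆ = 1 ∨ ⁅θ x, θ y⁆ = zB := by
          rw [← map_commutatorElement]
          refine hθcen _ ?_
          rw [← hcom]
          have := Subgroup.commutator_mem_commutator (Subgroup.mem_top (x : Q))
            (Subgroup.mem_top (y : Q))
          simpa [commutatorElement_def, commutator_def] using this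
        exact hc.resolve_left hne
      intro b hb
      rcases (hcentre b).mp hb with rfl | rfl
      · exact one_mem _
      · exact heq ▸ hmem
  have hQBp : IsPGroup 2 QB := (hQp.to_subgroup P).of_surjective θ hθs
  have hfrat : frattini QB = Subgroup.center QB := by
    refine le_antisymm (SquareMaps.frattini_le _ fun b => ?_)
      (hcomB ▸ PGroups.commutator_le_frattini hQBp)
    obtain ⟨x, rfl⟩ := hθs b
    rw [← map_pow, hcentre]
    refine hθcen _ ?_
    rw [SubgroupClass.coe_pow, pow_two, ← QuotientGroup.eq_one_iff, QuotientGroup.mk_mul]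
    obtain ⟨v, hv⟩ := hψ.2.1 (QuotientGroup.mk (x : Q))
    rw [← hv, ← hψ.1, hψ.2.2.1]
    exact ⟨v, rfl⟩
  have hQBes : IsExtraspecial 2 QB := ⟨⟨hQBp, hfrat, hcomB⟩, hcen2⟩
  -- the module map
  have hlift : ∀ x : leechPerpU, ∃ p : P, ψ (x : leechLattice) = QuotientGroup.mk (p : Q) := by
    intro x
    obtain ⟨q, hq⟩ := QuotientGroup.mk_surjective (ψ (x : leechLattice))
    have hd : (16 : ℤ) ∣ dotInt (vec (x : leechLattice)) (vec Spor.leechU) := x.2
    exact ⟨⟨q, Subgroup.mem_centralizer_singleton_iff.mpr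
      ((MonsterPairing.commute_iff hS hψ hq.symm hqt).mpr hd).eq⟩, hq.symm⟩
  choose lift hliftspec using hlift
  let ψB : leechPerpU → QB ⧸ Subgroup.center QB := fun x => QuotientGroup.mk (θ (lift x))
  have hψB : ∀ (x : leechPerpU) (p : P), ψ (x : leechLattice) = QuotientGroup.mk (p : Q) →
      ψB x = QuotientGroup.mk (θ p) := by
    intro x p hp
    refine QuotientGroup.eq.mpr ?_
    rw [← map_inv, ← map_mul, hcentre]
    refine hθcen _ ?_
    exact QuotientGroup.eq.mp ((hliftspec x).symm.trans hp)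
  have hperp : ∀ (p : P) (v : leechLattice), ψ v = QuotientGroup.mk (p : Q) → v ∈ leechPerpU := by
    intro p v hv
    exact (MonsterPairing.commute_iff hS hψ hv hqt).mp
      (Subgroup.mem_centralizer_singleton_iff.mp p.2)
  have hiso : IsLeechPerpModTwoIso QB e' ψB := by
    refine ⟨fun x y => ?_, fun b => ?_, fun x => ?_, ?_⟩
    · rw [hψB (x + y) (lift x * lift y) (by
        rw [AddSubgroup.coe_add, hψ.1, hliftspec, hliftspec]; rfl), map_mul]
      rfl
    · obtain ⟨b, rfl⟩ := QuotientGroup.mk_surjective b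
      obtain ⟨p, rfl⟩ := hθs b
      obtain ⟨v, hv⟩ := hψ.2.1 (QuotientGroup.mk (p : Q))
      exact ⟨⟨v, hperp p v hv⟩, hψB ⟨v, hperp p v hv⟩ p hv⟩
    · show (QuotientGroup.mk (θ (lift x)) : QB ⧸ Subgroup.center QB) = 1 ↔ _
      rw [QuotientGroup.eq_one_iff]
      constructor
      · intro h
        rcases hcenQ _ h with h | h
        · left
          refine (hψ.2.2.1 _).mp ?_
          rw [hliftspec]
          exact (QuotientGroup.eq_one_iff _).mpr h
        · right
          have h1 : ψ ((x : leechLattice) + Spor.leechU) = 1 := by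
            rw [hψ.1, hliftspec, hqt, ← QuotientGroup.mk_mul]
            exact (QuotientGroup.eq_one_iff _).mpr h
          obtain ⟨w, hw⟩ := (hψ.2.2.1 _).mp h1
          refine ⟨w - Spor.leechU, ?_⟩
          rw [eq_sub_of_add_eq hw]
          abel
      · rintro (⟨w, hw⟩ | ⟨w, hw⟩)
        · have h1 : ψ (x : leechLattice) = 1 := (hψ.2.2.1 _).mpr ⟨w, hw⟩
          rw [hliftspec] at h1
          exact (hcentre _).mpr (hθcen _ ((QuotientGroup.eq_one_iff _).mp h1))
        · have h1 : ψ (x : leechLattice) = ψ Spor.leechU :=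
            (MonsterCore.psi_eq_iff hψ _ _).mpr ⟨w, by rw [hw]; abel⟩
          rw [hliftspec, hqt] at h1
          have h2 : ((lift x * (⟨qt, hqP⟩ : P)⁻¹ : P) : Q) ∈ Subgroup.center Q := by
            rw [← QuotientGroup.eq_one_iff, Subgroup.coe_mul, QuotientGroup.mk_mul,
              InvMemClass.coe_inv, QuotientGroup.mk_inv, h1, mul_inv_cancel]
          have h3 := (hcentre _).mpr (hθcen _ h2)
          rwa [map_mul, map_inv, hθqt, inv_one, mul_one] at h3
    · intro h gg hg x y hxy q hq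
      obtain ⟨k, rfl⟩ := hf h
      have hg' : φ k = gg := (hφb k).symm.trans hg
      have hact := hψ.2.2.2 (k : Cen[z]) (incl gg) (by rw [← hg']; exact hφ k) _ _ (hliftspec x)
      rw [incl_smul, hxy] at hact
      have hkP : (⟨(k : Cen[z]) * ((lift x : Q) : Cen[z]) * (k : Cen[z])⁻¹,
          (inferInstance : Q.Normal).conj_mem _ (lift x : Q).2 (k : Cen[z])⟩ : Q) ∈ P :=
        Subgroup.mem_centralizer_singleton_iff.mpr
          ((MonsterPairing.commute_iff hS hψ hact hqt).mpr y.2).eq
      rw [hψB y ⟨_, hkP⟩ hact]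
      have hval : ((θ ⟨_, hkP⟩ : QB) : ↥(Subgroup.centralizer ({zb} : Set (↥Cen[T] ⧸ N)))) =
          f k * ((θ (lift x) : QB) : ↥(Subgroup.centralizer ({zb} : Set (↥Cen[T] ⧸ N)))) *
            (f k)⁻¹ := by
        rw [hθ, hθ, ← map_mul, ← map_inv, ← map_mul]
        rfl
      have hc : (θ (lift x))⁻¹ * q ∈ Subgroup.center QB := QuotientGroup.eq.mp hq
      refine QuotientGroup.eq.mpr ((hcentre _).mpr ?_)
      set Kf := f k with hKf
      set θ1 := θ (lift x)
      have hcomm : Kf * (((θ1)⁻¹ * q : QB) : ↥(Subgroup.centralizer ({zb} : Set (↥Cen[T] ⧸ N)))) *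
          Kf⁻¹ = (((θ1)⁻¹ * q : QB) : ↥(Subgroup.centralizer ({zb} : Set (↥Cen[T] ⧸ N)))) := by
        rcases (hcentre _).mp hc with h1 | h1 <;> rw [h1]
        · rw [Subgroup.coe_one, mul_one, mul_inv_cancel]
        · apply Subtype.ext
          have := Subgroup.mem_centralizer_singleton_iff.mp Kf.2
          simp only [Subgroup.coe_mul, InvMemClass.coe_inv, hzB]
          rw [this, mul_inv_cancel_right]
      have key : ((θ ⟨_, hkP⟩)⁻¹ * (⟨Kf * (q : ↥(Subgroup.centralizer ({zb} : Set (↥Cen[T] ⧸ N)))) * Kf⁻¹,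
          (inferInstance : QB.Normal).conj_mem _ q.2 Kf⟩ : QB)) = (θ1)⁻¹ * q := by
        apply Subtype.ext
        rw [Subgroup.coe_mul, InvMemClass.coe_inv, hval]
        calc (Kf * (θ1 : ↥(Subgroup.centralizer ({zb} : Set (↥Cen[T] ⧸ N)))) * Kf⁻¹)⁻¹ *
              (Kf * (q : ↥(Subgroup.centralizer ({zb} : Set (↥Cen[T] ⧸ N)))) * Kf⁻¹)
            = Kf * ((θ1 : ↥(Subgroup.centralizer ({zb} : Set (↥Cen[T] ⧸ N))))⁻¹ *
                (q : ↥(Subgroup.centralizer ({zb} : Set (↥Cen[T] ⧸ N))))) * Kf⁻¹ := by group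
          _ = _ := hcomm
      rw [key]
      exact (hcentre _).mp hc
  -- the generalised Fitting subgroup
  haveI := isSimple
  haveI : Finite Spor.Co2 := Nat.finite_of_card_ne_zero (by rw [card]; norm_num)
  have hcore : pCore 2 ↥(Subgroup.centralizer ({zb} : Set (↥Cen[T] ⧸ N))) = QB := by
    refine le_antisymm ?_ (Cores.le_pCore hQBp)
    rw [← hφbker]
    haveI : (pCore 2 ↥(Subgroup.centralizer ({zb} : Set (↥Cen[T] ⧸ N)))).Normal := inferInstance
    rcases (Subgroup.Normal.map this φb hφbs).eq_bot_or_eq_top with h | h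
    · exact (Subgroup.map_eq_bot_iff _).mp h
    · exfalso
      obtain ⟨n, hn⟩ := ((Cores.pCore_isPGroup 2).map φb).exists_card_eq
      rw [h, Subgroup.card_top, card] at hn
      have : (3 : ℕ) ∣ 2 :=
        Nat.prime_three.dvd_of_dvd_pow (hn ▸ (by norm_num : (3 : ℕ) ∣ 42305421312000))
      norm_num at this
  have hself : Subgroup.centralizer (QB : Set ↥(Subgroup.centralizer ({zb} : Set (↥Cen[T] ⧸ N)))) ≤
      QB := by
    haveI hCn : (Subgroup.centralizer
      (QB : Set ↥(Subgroup.centralizer ({zb} : Set (↥Cen[T] ⧸ N))))).Normal := inferInstance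
    rcases (hCn.map φb hφbs).eq_bot_or_eq_top with h | h
    · exact ((Subgroup.map_eq_bot_iff _).mp h).trans hφbker.le
    · exfalso
      obtain ⟨g0, w, hw, hno1, hno2⟩ := exists_moved
      obtain ⟨b, hb, hbg⟩ : g0 ∈ (Subgroup.centralizer
          (QB : Set ↥(Subgroup.centralizer ({zb} : Set (↥Cen[T] ⧸ N))))).map φb := by
        rw [h]; exact Subgroup.mem_top g0
      obtain ⟨k, rfl⟩ := hf b
      have hwperp : w ∈ leechPerpU := by
        show (16 : ℤ) ∣ dotInt (vec w) (vec Spor.leechU)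
        rw [StabMin.dot_comm]; exact hw
      set x : leechPerpU := ⟨w, hwperp⟩
      have hact := hψ.2.2.2 (k : Cen[z]) (incl g0) (by rw [← hbg, hφb]; exact hφ k) _ _ (hliftspec x)
      rw [incl_smul] at hact
      have hkP : (⟨(k : Cen[z]) * ((lift x : Q) : Cen[z]) * (k : Cen[z])⁻¹,
          (inferInstance : Q.Normal).conj_mem _ (lift x : Q).2 (k : Cen[z])⟩ : Q) ∈ P := by
        refine Subgroup.mem_centralizer_singleton_iff.mpr (Subtype.ext ?_)
        have h1 : (k : Cen[z]) * (qt : Cen[z]) = (qt : Cen[z]) * (k : Cen[z]) :=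
          Subgroup.mem_centralizer_singleton_iff.mp k.2
        have h2 : ((lift x : Q) : Cen[z]) * (qt : Cen[z]) = (qt : Cen[z]) * ((lift x : Q) : Cen[z]) :=
          congrArg Subtype.val (Subgroup.mem_centralizer_singleton_iff.mp (lift x).2)
        exact ((show Commute (k : Cen[z]) (qt : Cen[z]) from h1).mul_left h2).mul_left
          (show Commute (k : Cen[z]) (qt : Cen[z]) from h1).inv_left |>.eq
      have hcomm := Subgroup.mem_centralizer_iff.mp hb _ (θ (lift x)).2
      have hθeq : θ ⟨_, hkP⟩ = θ (lift x) := by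
        apply Subtype.ext
        have hval : ((θ ⟨_, hkP⟩ : QB) : ↥(Subgroup.centralizer ({zb} : Set (↥Cen[T] ⧸ N)))) =
            f k * ((θ (lift x) : QB) : ↥(Subgroup.centralizer ({zb} : Set (↥Cen[T] ⧸ N)))) *
              (f k)⁻¹ := by
          rw [hθ, hθ, ← map_mul, ← map_inv, ← map_mul]
          rfl
        rw [hval, ← hcomm, mul_inv_cancel_right]
      have h3 : θ ((lift x)⁻¹ * ⟨_, hkP⟩) = 1 := by rw [map_mul, map_inv, hθeq, inv_mul_cancel]
      rcases (hθker _).mp h3 with h4 | h4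
      · refine hno1 ((MonsterCore.psi_eq_iff hψ _ _).mp ?_)
        rw [hact, show ψ w = _ from hliftspec x]
        simp only [Subgroup.coe_mul, InvMemClass.coe_inv] at h4
        exact congrArg QuotientGroup.mk (inv_mul_eq_one.mp h4).symm
      · refine hno2 ?_
        have h5 : ψ (g0 • w) = ψ (w + Spor.leechU) := by
          rw [hact, hψ.1, show ψ w = _ from hliftspec x, hqt, ← QuotientGroup.mk_mul]
          simp only [Subgroup.coe_mul, InvMemClass.coe_inv] at h4
          exact congrArg QuotientGroup.mk (inv_mul_eq_iff_eq_mul.mp h4)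
        obtain ⟨t, ht⟩ := (MonsterCore.psi_eq_iff hψ _ _).mp h5
        exact ⟨t, by rw [← ht]; abel⟩
  have hFstar : generalizedFittingSubgroup ↥(Subgroup.centralizer ({zb} : Set (↥Cen[T] ⧸ N))) =
      QB := by
    rw [← hcore]
    refine Balance.centralizer_pCore_le_iff.mp ?_
    rw [hcore]
    exact hself
  -- not weakly closed
  have hzb2 : orderOf zb = 2 := by
    refine orderOf_eq_prime ?_ hzb1
    rw [pow_two, hzb, ← QuotientGroup.mk_mul, show (⟨z, hzH⟩ * ⟨z, hzH⟩ : ↥Cen[T]) = 1 from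
      Subtype.ext hz2, QuotientGroup.mk_one]
  have hgH : g ∈ Cen[T] := Subgroup.mem_centralizer_singleton_iff.mpr (by
    calc g * T = g * T * g⁻¹ * g := by group
      _ = T * g := by rw [hgT])
  have hsT : (qs : Cen[z]) ∈ CC := by
    rw [hCC, Subgroup.mem_centralizer_singleton_iff]
    apply Subtype.ext
    show ((qs : Cen[z]) : G) * T = T * ((qs : Cen[z]) : G)
    rw [← hgz]
    calc g * z * g⁻¹ * T = g * z * g⁻¹ * (g * T * g⁻¹) := by rw [hgT]
      _ = g * (z * T) * g⁻¹ := by group
      _ = g * (T * z) * g⁻¹ := by rw [hzT]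
      _ = g * T * g⁻¹ * (g * z * g⁻¹) := by group
      _ = T * (g * z * g⁻¹) := by rw [hgT]
  have hgz' : QuotientGroup.mk (⟨g, hgH⟩ : ↥Cen[T]) * zb * (QuotientGroup.mk ⟨g, hgH⟩)⁻¹ =
      ((f ⟨_, hsT⟩ : ↥(Subgroup.centralizer ({zb} : Set (↥Cen[T] ⧸ N)))) : ↥Cen[T] ⧸ N) := by
    show QuotientGroup.mk (⟨g, hgH⟩ : ↥Cen[T]) * QuotientGroup.mk (⟨z, hzH⟩ : ↥Cen[T]) *
      (QuotientGroup.mk (⟨g, hgH⟩ : ↥Cen[T]))⁻¹ = QuotientGroup.mk (j ⟨_, hsT⟩)
    rw [← QuotientGroup.mk_inv, ← QuotientGroup.mk_mul, ← QuotientGroup.mk_mul]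
    exact congrArg QuotientGroup.mk (Subtype.ext hgz)
  refine ⟨zb, QB, hQBn, ⟨hzb2, hFstar, hQBes, hQBcard,
    QuotientGroup.mk (⟨g, hgH⟩ : ↥Cen[T]), ⟨hgz' ▸ (f ⟨_, hsT⟩).2, ?_⟩, ?_⟩, e', ψB, hiso⟩
  · refine ⟨⟨_, hsT⟩, qs.2, Subtype.ext hgz'.symm⟩
  · intro h
    have h1 : f ⟨_, hsT⟩ = f ⟨⟨z, Subgroup.mem_centralizer_singleton_iff.mpr rfl⟩,
        Subgroup.mem_centralizer_singleton_iff.mpr (Subtype.ext hzT)⟩ :=
      Subtype.ext (hgz'.symm.trans h)
    rw [← inv_mul_eq_one, ← map_inv, ← map_mul] at h1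
    rcases hkerf _ h1 with h2 | h2
    · simp only [Subgroup.coe_mul, InvMemClass.coe_inv] at h2
      exact hsne (inv_mul_eq_one.mp h2)
    · simp only [Subgroup.coe_mul, InvMemClass.coe_inv] at h2
      refine not_conj_mul hS hψ hqt (isConj_iff.mpr ⟨g, ?_⟩)
      show g * z * g⁻¹ = z * T
      rw [hgz]
      have h4 : ((qs : Cen[z]) : G) = z * T⁻¹ := by
        rw [← h2]; group
      rw [h4, inv_eq_of_mul_eq_one_left hT2]

end Cfsg.Agent.Lib.LeechMod2.MonsterBaby
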