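import Cfsg.Agent.Lib.Leech.Order
import Cfsg.Agent.Lib.Golay.Stabilizers
import Cfsg.Prelude.Def_Spor_Conway

/-!
An element of `Co0` with few conjugates modulo the centre is `±1`.
-/

set_option autoImplicit false

namespace Cfsg.Agent.Lib.LeechMod2.Axes

open Cfsg Cfsg.Agent.Lib.Leech
open scoped Pointwise

local notation "Cross" => Cfsg.Agent.Lib.Leech.crossGroup

theorem flip_mem_cross {c : Finset GolayPt} (hc : IsCode c) : flip c hc ∈ Cross :=
  axis_monomial _ hc

theorem mono_mem_cross {σ : Equiv.Perm GolayPt} (hσ : σ ∈ M24) :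
    monomial σ hσ ∅ isCode_empty ∈ Cross :=
  axis_monomial hσ _

theorem cross_finite_orbit (w : leechLattice) : (MulAction.orbit Cross w).Finite :=
  Set.finite_range _

theorem vec_perm {σ : Equiv.Perm GolayPt} (hσ : σ ∈ M24) (w : leechLattice) (k : GolayPt) :
    vec (monomial σ hσ ∅ isCode_empty • w) (σ k) = vec w k := by
  rw [monomial_smul]; simp [signedPerm]

theorem res_perm {σ : Equiv.Perm GolayPt} (hσ : σ ∈ M24) (w : leechLattice) :
    res 2 (vec (monomial σ hσ ∅ isCode_empty • w)) = σ • res 2 (vec w) := by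
  ext k
  obtain ⟨l, rfl⟩ := σ.surjective k
  rw [← Equiv.Perm.smul_def, Finset.smul_mem_smul_finset_iff, Equiv.Perm.smul_def, mem_res,
    mem_res, vec_perm]

theorem res_flip {c : Finset GolayPt} (hc : IsCode c) (w : leechLattice) :
    res 2 (vec (flip c hc • w)) = res 2 (vec w) := by
  ext k
  rw [mem_res, mem_res, flip_smul]
  split_ifs <;> omega

theorem transitive_supports {S T : Finset GolayPt} (hS : IsCode S) (hT : IsCode T)
    (h0 : S.card = 8 ∨ S.card = 12 ∨ S.card = 16) (hc : S.card = T.card) :
    ∃ σ ∈ M24, σ • S = T := by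
  rcases h0 with h | h | h
  · exact Golay.transitive_octads ⟨hS, h⟩ ⟨hT, hc ▸ h⟩
  · exact Golay.transitive_dodecads ⟨hS, h⟩ ⟨hT, hc ▸ h⟩
  · obtain ⟨σ, hσ, hσS⟩ := Golay.transitive_octads (o := Sᶜ) (o' := Tᶜ)
      ⟨hS.compl, by rw [Finset.card_compl, h, Golay.card_golayPt]⟩
      ⟨hT.compl, by rw [Finset.card_compl, ← hc, h, Golay.card_golayPt]⟩
    refine ⟨σ, hσ, ?_⟩
    rw [Finset.compl_eq_univ_sdiff, Finset.smul_finset_sdiff, Finset.smul_finset_univ,
      ← Finset.compl_eq_univ_sdiff] at hσS
    exact compl_injective hσS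

/-- A vector with support pattern in a code word has many images. -/
theorem big_orbit_res {w : leechLattice} {N : ℕ}
    (h0 : (res 2 (vec w)).card = 8 ∨ (res 2 (vec w)).card = 12 ∨ (res 2 (vec w)).card = 16)
    (hS : IsCode (res 2 (vec w)))
    (hN : ∃ F : Finset (Finset GolayPt), N ≤ F.card ∧
      ∀ T ∈ F, IsCode T ∧ T.card = (res 2 (vec w)).card) :
    3 * N ≤ (MulAction.orbit Cross w).ncard := by
  classical
  obtain ⟨F, hF, hmem⟩ := hN
  have hσ : ∀ T ∈ F, ∃ σ, σ ∈ M24 ∧ σ • res 2 (vec w) = T := fun T hT => by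
    obtain ⟨σ, h1, h2⟩ := transitive_supports hS (hmem T hT).1 h0 (hmem T hT).2.symm
    exact ⟨σ, h1, h2⟩
  choose! σ hσM hσS using hσ
  have hab : ∀ T ∈ F, ∃ a b c, a ∈ T ∧ b ∈ T ∧ IsCode c ∧ a ∈ c ∧ b ∉ c := fun T hT => by
    obtain ⟨a, ha, b, hb, hne⟩ := Finset.one_lt_card.mp
      (show 1 < T.card by rw [(hmem T hT).2]; omega)
    obtain ⟨c, hc, hac, hbc⟩ := separated hne
    exact ⟨a, b, c, ha, hb, hc, hac, hbc⟩
  choose! pa pb pc hpa hpb hpc hac hbc using hab
  let u : ∀ T : F, leechLattice := fun T => monomial (σ T.1) (hσM T.1 T.2) ∅ isCode_empty • w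
  let img : F × Fin 3 → leechLattice := fun p =>
    ![u p.1, flip (pc p.1.1) (hpc _ p.1.2) • u p.1, flip Finset.univ isCode_univ • u p.1] p.2
  have hres : ∀ p, res 2 (vec (img p)) = p.1.1 := by
    rintro ⟨⟨T, hT⟩, i⟩
    fin_cases i <;> simp only [img, u] <;>
      simp [res_flip, res_perm, hσS T hT]
  have hinj : Function.Injective img := by
    rintro ⟨T, i⟩ ⟨T', i'⟩ h
    obtain rfl : T = T' := Subtype.ext (by
      rw [← hres ⟨T, i⟩, h, hres ⟨T', i'⟩])
    have hva : ∀ x ∈ T.1, vec (u T) x % 4 = 2 := fun x hx => by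
      have : x ∈ res 2 (vec (u T)) := by
        simp only [u]; rw [res_perm, hσS T.1 T.2]; exact hx
      exact mem_res.mp this
    have ha := hva _ (hpa _ T.2)
    have hb := hva _ (hpb _ T.2)
    have e1 := congrFun (congrArg vec h) (pa T.1)
    have e2 := congrFun (congrArg vec h) (pb T.1)
    have k1 := hac _ T.2
    have k2 := hbc _ T.2
    fin_cases i <;> fin_cases i' <;>
      first
      | rfl
      | (simp [img, flip_smul, k1] at e1; omega)
      | (simp [img, flip_smul, k2] at e2; omega)
  have hsub : Set.range img ⊆ MulAction.orbit Cross w := by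
    rintro _ ⟨⟨T, i⟩, rfl⟩
    have hm : monomial (σ T.1) (hσM T.1 T.2) ∅ isCode_empty ∈ Cross := mono_mem_cross _
    fin_cases i
    · exact ⟨⟨_, hm⟩, rfl⟩
    · refine ⟨⟨_, mul_mem (flip_mem_cross (hpc _ T.2)) hm⟩, ?_⟩
      show (_ * _ : Co0) • w = _
      rw [mul_smul]
      rfl
    · refine ⟨⟨_, mul_mem (flip_mem_cross isCode_univ) hm⟩, ?_⟩
      show (_ * _ : Co0) • w = _
      rw [mul_smul]
      rfl
  have := Set.ncard_le_ncard hsub (cross_finite_orbit w)
  rw [Set.ncard_range_of_injective hinj, Nat.card_prod, Nat.card_eq_finsetCard,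
    Nat.card_eq_fintype_card, Fintype.card_fin] at this
  omega

/-- A vector of norm 64 off the axes has more than 2256 images under the monomial group. -/
theorem big_orbit {w : leechLattice} (hn : sqNorm (vec w) = 64)
    (haxis : w ∉ Set.range axisVec) : 2256 < (MulAction.orbit Cross w).ncard := by
  classical
  have hne : w ≠ 0 := by
    rintro rfl
    simp [sqNorm, vec] at hn
  rcases mem_leech_iff.mp w.2 with he | ho
  · have hsum : 4 * ((res 2 (vec w)).card : ℤ) ≤ 64 := by
      have h1 : ∑ k ∈ res 2 (vec w), (4 : ℤ) ≤ ∑ k ∈ res 2 (vec w), vec w k ^ 2 := by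
        refine Finset.sum_le_sum fun k hk => ?_
        have := mem_res.mp hk
        have : 2 ≤ vec w k ∨ vec w k ≤ -2 := by omega
        rcases this with h | h <;> nlinarith
      have h2 := Finset.sum_le_sum_of_subset_of_nonneg (Finset.subset_univ (res 2 (vec w)))
        (fun k _ _ => sq_nonneg (vec w k))
      simp only [Finset.sum_const, nsmul_eq_mul] at h1
      simp only [sqNorm] at hn
      linarith
    rcases Golay.card_of_mem_supports he.2.1 with h | h | h | h | h
    · -- four fours
      have h4 : ∀ k, vec w k % 4 = 0 := fun k => by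
        have := he.1 k
        have hk : k ∉ res 2 (vec w) := by rw [Finset.card_eq_zero.mp h]; simp
        rw [mem_res] at hk
        simp only [vec] at *
        omega
      have hval : ∀ k, vec w k = 0 ∨ vec w k = 4 ∨ vec w k = -4 := fun k => by
        have hb := coord_le (v := w) (i := k) (N := 64) (B := 8) hn.le (by norm_num) (by norm_num)
        have := h4 k
        by_contra hc
        push Not at hc
        rcases eq_single_of_eight hn (i := k) (by omega) with e | e
        · exact haxis ⟨(k, true), e.symm⟩
        · exact haxis ⟨(k, false), e.symm⟩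
      set B := Finset.univ.filter fun k => vec w k ≠ 0 with hB
      have hBc : B.card = 4 := by
        have h1 : ∑ k, vec w k ^ 2 = ∑ k ∈ B, (16 : ℤ) := by
          rw [hB, Finset.sum_filter]
          refine Finset.sum_congr rfl fun k _ => ?_
          rcases hval k with e | e | e <;> simp [e]
        simp only [sqNorm] at hn
        rw [h1, Finset.sum_const, nsmul_eq_mul] at hn
        omega
      let x : Fin 4 ↪ GolayPt :=
        ((Finset.equivFinOfCardEq hBc).symm.toEmbedding).trans (Function.Embedding.subtype _)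
      have hx : Finset.univ.map x = B := by
        refine Finset.eq_of_subset_of_card_le ?_ (by simp [hBc])
        intro k hk
        obtain ⟨i, -, rfl⟩ := Finset.mem_map.mp hk
        exact ((Finset.equivFinOfCardEq hBc).symm i).2
      have hσ : ∀ T ∈ (Finset.univ : Finset GolayPt).powersetCard 4,
          ∃ σ, σ ∈ M24 ∧ σ • B = T := fun T hT => by
        have hTc := (Finset.mem_powersetCard.mp hT).2
        let y : Fin 4 ↪ GolayPt :=
          ((Finset.equivFinOfCardEq hTc).symm.toEmbedding).trans (Function.Embedding.subtype _)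
        obtain ⟨σ, hσ, hmap⟩ := Golay.exists_map_tuple (by norm_num) x y
        refine ⟨σ, hσ, Finset.eq_of_subset_of_card_le ?_ (by rw [Finset.card_smul_finset, hBc, hTc])⟩
        intro k hk
        obtain ⟨l, hl, rfl⟩ := Finset.mem_smul_finset.mp hk
        rw [← hx] at hl
        obtain ⟨i, -, rfl⟩ := Finset.mem_map.mp hl
        rw [Equiv.Perm.smul_def, hmap]
        exact ((Finset.equivFinOfCardEq hTc).symm i).2
      choose! σ hσM hσB using hσ
      let img : (Finset.univ : Finset GolayPt).powersetCard 4 → leechLattice := fun T =>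
        monomial (σ T.1) (hσM T.1 T.2) ∅ isCode_empty • w
      have hinj : Function.Injective img := by
        intro T T' hTT
        apply Subtype.ext
        rw [← hσB T.1 T.2, ← hσB T'.1 T'.2]
        have hsupp : ∀ (T : (Finset.univ : Finset GolayPt).powersetCard 4) (k : GolayPt),
            k ∈ σ T.1 • B ↔ vec (img T) k ≠ 0 := by
          intro T k
          obtain ⟨l, rfl⟩ := (σ T.1).surjective k
          rw [← Equiv.Perm.smul_def, Finset.smul_mem_smul_finset_iff, Equiv.Perm.smul_def,
            vec_perm, hB, Finset.mem_filter]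
          simp
        ext k
        rw [hsupp, hsupp, hTT]
      have := Set.ncard_le_ncard (s := Set.range img)
        (by rintro _ ⟨T, rfl⟩; exact ⟨⟨_, mono_mem_cross (hσM T.1 T.2)⟩, rfl⟩) (cross_finite_orbit w)
      rw [Set.ncard_range_of_injective hinj, Nat.card_eq_finsetCard, Finset.card_powersetCard,
        Finset.card_univ, Golay.card_golayPt, show Nat.choose 24 4 = 10626 from rfl] at this
      omega
    · have := big_orbit_res (N := 759) (Or.inl h) he.2.1
        ⟨(Set.toFinite octads).toFinset, by
          rw [← Set.ncard_eq_toFinset_card, Golay.ncard_octads],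
          fun T hT => by rw [Set.Finite.mem_toFinset] at hT; exact ⟨hT.1, hT.2.trans h.symm⟩⟩
      omega
    · have := big_orbit_res (N := 2576) (Or.inr (Or.inl h)) he.2.1
        ⟨(Set.toFinite dodecads).toFinset, by
          rw [← Set.ncard_eq_toFinset_card, Golay.ncard_dodecads],
          fun T hT => by rw [Set.Finite.mem_toFinset] at hT; exact ⟨hT.1, hT.2.trans h.symm⟩⟩
      omega
    · have := big_orbit_res (N := 759) (Or.inr (Or.inr h)) he.2.1
        ⟨(Set.toFinite octads).toFinset.image compl, by
          rw [Finset.card_image_of_injective _ compl_injective, ← Set.ncard_eq_toFinset_card,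
            Golay.ncard_octads],
          fun T hT => by
            obtain ⟨o, ho, rfl⟩ := Finset.mem_image.mp hT
            rw [Set.Finite.mem_toFinset] at ho
            exact ⟨IsCode.compl ho.1, by rw [Finset.card_compl, ho.2, h, Golay.card_golayPt]⟩⟩
      omega
    · simp only [vec] at *
      omega
  · let img : GolayUnique.golaySets → leechLattice := fun c =>
      flip c.1 (GolayUnique.mem_golaySets.mp c.2) • w
    have hinj : Function.Injective img := by
      intro c c' hcc
      apply Subtype.ext
      ext k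
      have e := congrFun (congrArg vec hcc) k
      have := ho.1 k
      simp only [img, flip_smul] at e
      simp only [vec] at *
      by_cases h1 : k ∈ c.1 <;> by_cases h2 : k ∈ c'.1 <;>
        simp only [h1, h2, if_true, if_false] at e ⊢ <;> omega
    have := Set.ncard_le_ncard (s := Set.range img)
      (by rintro _ ⟨c, rfl⟩; exact ⟨⟨_, flip_mem_cross (GolayUnique.mem_golaySets.mp c.2)⟩, rfl⟩) (cross_finite_orbit w)
    rw [Set.ncard_range_of_injective hinj, Nat.card_eq_finsetCard, GolayUnique.card_golaySets]
      at this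
    omega

theorem axisVec_neg (p : GolayPt × Bool) : -axisVec p = axisVec (p.1, !p.2) := by
  obtain ⟨i, b⟩ := p
  cases b <;> simp [axisVec]

theorem sqNorm_axisVec (p : GolayPt × Bool) : sqNorm (vec (axisVec p)) = 64 := by
  obtain ⟨i, b⟩ := p
  cases b
  · show sqNorm (-(vec (eightE i))) = 64
    rw [sqNorm_neg]
    exact sqNorm_eightE i
  · exact sqNorm_eightE i

/-- The conjugates of an element modulo the centre. -/
def conjSet (g : Co0) : Set Spor.Co1 :=
  Set.range fun h : Spor.Co1 => h * (QuotientGroup.mk g : Spor.Co1) * h⁻¹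

/-- With few conjugates, the image of an axis is an axis. -/
theorem axis_of_few {g : Co0} (hfew : (conjSet g).ncard ≤ 47) : Axis g := by
  classical
  have hfin : (conjSet g).Finite := Set.finite_range _
  by_contra hcon
  have hw : g • eightE none ∉ Set.range axisVec := by
    rintro ⟨⟨j, b⟩, hj⟩
    refine hcon (axis_of_one (i := none) (j := j) ?_)
    cases b
    · exact Or.inr hj.symm
    · exact Or.inl hj.symm
  set w := g • eightE none with hwdef
  have hsub : MulAction.orbit Cross w ⊆
      (fun q : Spor.Co1 × (GolayPt × Bool) => Quotient.out q.1 • axisVec q.2) ''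
        (conjSet g ×ˢ (Set.univ : Set (GolayPt × Bool))) := by
    rintro _ ⟨⟨p, hp⟩, rfl⟩
    obtain ⟨a, ha⟩ : ∃ a, axisVec a = p • eightE none := by
      obtain ⟨j, hj | hj⟩ := mem_crossGroup.mp hp none
      · exact ⟨(j, true), hj.symm⟩
      · exact ⟨(j, false), hj.symm⟩
    have hout : (QuotientGroup.mk (p * g * p⁻¹) : Spor.Co1) =
        QuotientGroup.mk (Quotient.out (QuotientGroup.mk (p * g * p⁻¹) : Spor.Co1)) :=
      (QuotientGroup.out_eq' _).symm
    set q : Spor.Co1 := QuotientGroup.mk (p * g * p⁻¹) with hq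
    have hzc := center_co0_eq (QuotientGroup.eq.mp hout.symm)
    have hq' : q ∈ conjSet g := ⟨QuotientGroup.mk p, by simp [hq]⟩
    have e : p • w = (p * g * p⁻¹) • axisVec a := by
      rw [ha, hwdef, mul_smul, mul_smul, inv_smul_smul]
    rcases hzc with h | h
    · refine ⟨(q, a), ⟨hq', Set.mem_univ _⟩, ?_⟩
      show Quotient.out q • axisVec a = p • w
      rw [e, ← inv_mul_eq_one.mp h]
    · refine ⟨(q, (a.1, !a.2)), ⟨hq', Set.mem_univ _⟩, ?_⟩
      show Quotient.out q • axisVec (a.1, !a.2) = p • w
      rw [e, ← axisVec_neg, ← negOne_smul, ← mul_smul, ← h, mul_inv_cancel_left]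
  have h1 := Set.ncard_le_ncard hsub (Set.Finite.image _ (hfin.prod Set.finite_univ))
  have h2 := Set.ncard_image_le (f := fun q : Spor.Co1 × (GolayPt × Bool) =>
    Quotient.out q.1 • axisVec q.2) (hfin.prod (Set.finite_univ (α := GolayPt × Bool)))
  rw [Set.ncard_prod, Set.ncard_univ, Nat.card_prod, Nat.card_eq_fintype_card,
    Nat.card_eq_fintype_card, Fintype.card_bool, Golay.card_golayPt] at h2
  have h3 := big_orbit (w := w) (by rw [hwdef, norm_smul', sqNorm_eightE]) hw
  have : (conjSet g).ncard * (24 * 2) ≤ 47 * (24 * 2) := Nat.mul_le_mul_right _ hfew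
  omega

theorem conjSet_conj (g h : Co0) : conjSet (h * g * h⁻¹) = conjSet g := by
  ext x
  constructor
  · rintro ⟨a, rfl⟩
    exact ⟨a * QuotientGroup.mk h, by simp [mul_assoc]⟩
  · rintro ⟨a, rfl⟩
    exact ⟨a * (QuotientGroup.mk h)⁻¹, by simp [mul_assoc]⟩

/-- An element with few conjugates modulo the centre is central. -/
theorem mem_center_of_few {g : Co0} (hfew : (conjSet g).ncard ≤ 47) :
    g ∈ Subgroup.center Co0 := by
  -- every vector of norm 64 keeps its class
  have hcl : ∀ v : leechLattice, sqNorm (vec v) = 64 → ∃ z, g • v - v = (2 : ℤ) • z := by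
    intro v hv
    obtain ⟨h, hh⟩ := transitive64 hv
    obtain ⟨j, hj⟩ := axis_of_few (g := h * g * h⁻¹) (by rw [conjSet_conj]; exact hfew) none
    have hv' : v = h⁻¹ • eightE none := by rw [← hh, inv_smul_smul]
    have hgv : g • v = h⁻¹ • ((h * g * h⁻¹) • eightE none) := by
      rw [hv', ← mul_smul, ← mul_smul]; congr 1; group
    obtain ⟨z, hz⟩ : ∃ z : leechLattice, eightE j - eightE none = (2 : ℤ) • z :=
      ⟨⟨_, four_pm_mem (i := j) (j := none) 1 (-1) (by norm_num)⟩, by
        apply Subtype.ext
        funext l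
        simp [eightE, Pi.single_apply]
        split_ifs <;> norm_num⟩
    rcases hj with hj | hj
    · exact ⟨h⁻¹ • z, by rw [hgv, hj, hv', ← smul_sub', hz, smul_zsmul']⟩
    · refine ⟨h⁻¹ • (z - eightE j), ?_⟩
      rw [hgv, hj, hv', ← smul_sub', ← smul_zsmul', smul_sub, ← hz, two_zsmul]
      congr 1
      abel
  -- the standard axes go to themselves up to a common sign
  have hax : Axis g := axis_of_few hfew
  have h32 : ∀ v : leechLattice, sqNorm (vec v) = 32 → ∃ z, g • v - v = (2 : ℤ) • z := by
    intro v hv
    obtain ⟨h, hh⟩ := transitive32 (p := some 0) (q := some 1) (by decide) hv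
    let y : GolayPt → ℤ := fun k =>
      if k = some 0 then -4 else if k = some 2 ∨ k = some 3 ∨ k = some 4 then 4 else 0
    have hy : y ∈ leechLattice :=
      evenVec_mem (evenVec_of_four (by intro k; simp only [y]; split_ifs <;> rfl)
        (by simp only [y]; decide +kernel))
    have hy64 : ∑ k, y k ^ 2 = 64 ∧
        ∑ k, ((if k = some 0 ∨ k = some 1 then (4 : ℤ) else 0) + y k) ^ 2 = 64 := by
      simp only [y]; decide +kernel
    have hy1 : sqNorm (vec (h⁻¹ • (⟨y, hy⟩ : leechLattice))) = 64 := by
      rw [norm_smul']; exact hy64.1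
    have hy2 : sqNorm (vec (h⁻¹ • (h • v + (⟨y, hy⟩ : leechLattice)))) = 64 := by
      rw [norm_smul']
      simp only [sqNorm, vec, AddSubgroup.coe_add, Pi.add_apply]
      rw [show ((h • v : leechLattice) : GolayPt → ℤ) = _ from hh]
      exact hy64.2
    obtain ⟨z1, hz1⟩ := hcl _ hy1
    obtain ⟨z2, hz2⟩ := hcl _ hy2
    refine ⟨z2 - z1, ?_⟩
    rw [smul_add', inv_smul_smul, smul_add'] at hz2
    rw [smul_sub, ← hz1, ← hz2]
    abel
  have hpm : ∀ v : leechLattice, sqNorm (vec v) = 32 → g • v = v ∨ g • v = -v := by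
    intro v hv
    obtain ⟨z, hz⟩ := h32 v hv
    by_contra hcon
    push Not at hcon
    have hz0 : z ≠ 0 := fun e => hcon.1 (by rwa [e, smul_zero, sub_eq_zero] at hz)
    have hw0 : z + v ≠ 0 := fun e => hcon.2 (by
      rw [eq_neg_of_add_eq_zero_left e, two_zsmul, sub_eq_iff_eq_add] at hz
      rw [hz]; abel)
    have b1 := sqNorm_ge z.2 (fun e => hz0 (Subtype.ext e))
    have b2 := sqNorm_ge (z + v).2 (fun e => hw0 (Subtype.ext e))
    have e1 : sqNorm (vec (g • v - v)) = 4 * sqNorm (vec z) := by
      rw [hz]
      simp only [sqNorm, vec, AddSubgroup.coe_zsmul, Pi.smul_apply, smul_eq_mul, Finset.mul_sum]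
      exact Finset.sum_congr rfl fun i _ => by ring
    have e2 : sqNorm (vec (g • v + v)) = 4 * sqNorm (vec (z + v)) := by
      rw [show g • v + v = (2 : ℤ) • (z + v) by
        rw [smul_add, ← hz, two_zsmul]; abel]
      simp only [sqNorm, vec, AddSubgroup.coe_zsmul, Pi.smul_apply, smul_eq_mul, Finset.mul_sum]
      exact Finset.sum_congr rfl fun i _ => by ring
    have e3 := sqNorm_add (vec (g • v)) (vec v)
    have e4 := sqNorm_sub (vec (g • v)) (vec v)
    have e5 := norm_smul' g v
    simp only [vec, AddSubgroup.coe_add, AddSubgroup.coe_sub] at *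
    omega
  -- signs on the axes
  have hfix : ∀ i, g • eightE i = eightE i ∨ g • eightE i = -eightE i := by
    intro i
    obtain ⟨j, hj⟩ := hax i
    have : ∀ k : GolayPt, k ≠ i → vec (g • eightE i) k = 0 := by
      intro k hk
      obtain ⟨l, hli, hlk⟩ :=
        (by decide +kernel : ∀ i k : GolayPt, ∃ l : GolayPt, l ≠ i ∧ l ≠ k) i k
      set p : leechLattice := ⟨_, four_pm_mem (i := i) (j := l) 1 1 (by norm_num)⟩
      set m : leechLattice := ⟨_, four_pm_mem (i := i) (j := l) 1 (-1) (by norm_num)⟩
      have hp : sqNorm (vec p) = 32 ∧ sqNorm (vec m) = 32 := by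
        constructor <;>
        · simp only [p, m, vec, sqNorm, Pi.add_apply]
          rw [← Finset.sum_subset (Finset.subset_univ {i, l}) (fun x _ hx => by
            simp only [Finset.mem_insert, Finset.mem_singleton, not_or] at hx
            simp [Pi.single_apply, hx.1, hx.2]), Finset.sum_pair (Ne.symm hli)]
          simp [hli, Ne.symm hli]
      have hsum : eightE i = p + m := by
        apply Subtype.ext
        funext x
        simp only [eightE, p, m, AddSubgroup.coe_add, Pi.add_apply, Pi.single_apply]
        split_ifs <;> norm_num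
      have hpk : vec p k = 0 ∧ vec m k = 0 := by
        simp [p, m, vec, Pi.single_apply, hk, Ne.symm hlk]
      rw [hsum, smul_add']
      simp only [vec, AddSubgroup.coe_add, Pi.add_apply] at hpk ⊢
      rcases hpm p hp.1 with e | e <;> rcases hpm m hp.2 with e' | e' <;> rw [e, e'] <;>
        simp [hpk.1, hpk.2]
    rcases hj with hj | hj
    · have := this j
      rw [hj, eightE_apply, if_pos rfl] at this
      by_cases h : j = i
      · subst h; exact Or.inl hj
      · exact absurd (this h) (by norm_num)
    · have := this j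
      rw [hj] at this
      simp [eightE, vec] at this
      subst this; exact Or.inr hj
  have hsame : ∀ i, g • eightE i = eightE i ↔ g • eightE none = eightE none := by
    intro i
    by_cases hi : i = none
    · rw [hi]
    set p : leechLattice := ⟨_, four_pm_mem (i := i) (j := none) 1 1 (by norm_num)⟩
    have hp : sqNorm (vec p) = 32 := by
      simp only [p, vec, sqNorm, Pi.add_apply]
      rw [← Finset.sum_subset (Finset.subset_univ {i, none}) (fun x _ hx => by
        simp only [Finset.mem_insert, Finset.mem_singleton, not_or] at hx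
        simp [Pi.single_apply, hx.1, hx.2]), Finset.sum_pair hi]
      simp [hi, Ne.symm hi]
    have h2 : (2 : ℤ) • p = eightE i + eightE none := by
      apply Subtype.ext
      funext x
      simp only [eightE, p, AddSubgroup.coe_zsmul, AddSubgroup.coe_add, Pi.smul_apply,
        Pi.add_apply, Pi.single_apply, smul_eq_mul]
      split_ifs <;> norm_num
    have hg2 : g • eightE i + g • eightE none = (2 : ℤ) • (g • p) := by
      rw [← smul_add', ← h2, smul_zsmul']
    have hnesign : ∀ j, -eightE j ≠ eightE j := fun j e => by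
      have := congrFun (congrArg vec e) j
      simp [vec, eightE] at this
    rcases hfix i with a | a <;> rcases hfix none with b | b <;> rcases hpm p hp with c | c <;>
      rw [c] at hg2 <;> rw [a, b] at hg2 ⊢ <;>
      first
      | (simp [hnesign]; done)
      | (exfalso
         have q1 := congrFun (congrArg vec hg2) i
         have q2 := congrFun (congrArg vec hg2) none
         simp [vec, eightE, p, hi, Ne.symm hi] at q1 q2)
  rcases hfix none with h0 | h0
  · have : g = 1 := co0_ext fun i => by rw [one_smul]; exact (hsame i).mpr h0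
    rw [this]; exact one_mem _
  · have : g = negOne := co0_ext fun i => by
      rw [negOne_smul]
      rcases hfix i with a | a
      · have := (hsame i).mp a
        rw [h0] at this
        have q := congrFun (congrArg vec this) none
        simp [vec, eightE] at q
      · exact a
    rw [this]; exact negOne_mem_center

end Cfsg.Agent.Lib.LeechMod2.Axes
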