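import Cfsg.Agent.Lib.Leech.Co0
import Cfsg.Agent.Lib.Leech.MinIndex

/-!
The lattice is generated by its vectors of squared length 32.
-/

set_option autoImplicit false

namespace Cfsg.Agent.Lib.LeechMod2.MinSpan

open Cfsg Cfsg.Agent.Lib.Leech Cfsg.Agent.Lib.Golay

/-- The vectors of squared length 32. -/
def minSet : Set leechLattice := {v | sqNorm (vec v) = 32}

/-- The subgroup generated by the vectors of squared length 32. -/
def minSpan : AddSubgroup leechLattice := AddSubgroup.closure minSet

theorem mem_of_norm {v : leechLattice} (h : sqNorm (vec v) = 32) : v ∈ minSpan :=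
  AddSubgroup.subset_closure h

theorem pair_norm : ∀ i : GolayPt, i ≠ none →
    (∑ k, ((Pi.single i (4 * 1) + Pi.single none (4 * (-1)) : GolayPt → ℤ) k) ^ 2) = 32 ∧
    (∑ k, ((Pi.single i (4 * 1) + Pi.single none (4 * 1) : GolayPt → ℤ) k) ^ 2) = 32 := by
  decide +kernel

theorem row_norm : ∀ r ∈ rows,
    (∑ k : GolayPt, (if k ∈ setOfMask r then (2 : ℤ) else 0) ^ 2) = 32 := by decide +kernel

theorem oddBase_norm : (∑ k, (oddBase none k) ^ 2) = 32 := by decide +kernel

/-- The difference of two unit vectors, scaled by four. -/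
def diff (i : GolayPt) : leechLattice :=
  ⟨Pi.single i (4 * 1) + Pi.single none (4 * (-1)), four_pm_mem 1 (-1) (by norm_num)⟩

theorem diff_mem (i : GolayPt) : diff i ∈ minSpan := by
  by_cases h : i = none
  · subst h
    have : diff none = 0 := by
      apply Subtype.ext
      funext k
      by_cases hk : k = none <;> simp [diff, hk]
    rw [this]
    exact minSpan.zero_mem
  · exact mem_of_norm (pair_norm i h).1

theorem eight_none_mem : eightE none ∈ minSpan := by
  have h : eightE none =
      (⟨Pi.single (some 0) (4 * 1) + Pi.single none (4 * 1), four_pm_mem 1 1 (by norm_num)⟩ :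
        leechLattice) - diff (some 0) := by
    apply Subtype.ext
    funext k
    simp only [eightE, diff, AddSubgroup.coe_sub, Pi.sub_apply, Pi.add_apply, Pi.single_apply]
    split_ifs <;> norm_num
  rw [h]
  exact minSpan.sub_mem (mem_of_norm (pair_norm _ (by simp)).2) (diff_mem _)

theorem code_lift {w : GolayPt → ZMod 2} (hw : w ∈ golayCode) :
    ∃ y ∈ minSpan, ∃ z : GolayPt → ℤ, ∀ i, vec y i = 2 * z i ∧ (z i : ZMod 2) = w i := by
  rw [golayCode_eq_span_rows] at hw
  induction hw using Submodule.span_induction with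
  | mem v hv =>
    obtain ⟨r, hr, rfl⟩ := hv
    have hc : IsCode (setOfMask r) := ⟨_, rows_mem r hr, support₂_wordOfMask r⟩
    refine ⟨⟨_, two_smul_code_mem hc⟩, mem_of_norm (row_norm r hr),
      fun i => if i ∈ setOfMask r then 1 else 0, fun i => ?_⟩
    by_cases h : r.testBit (idx i) = true <;> simp [vec, wordOfMask, h]
  | zero => exact ⟨0, minSpan.zero_mem, 0, fun i => by simp⟩
  | add v w _ _ hv hw =>
    obtain ⟨y, hy, z, hz⟩ := hv
    obtain ⟨y', hy', z', hz'⟩ := hw
    refine ⟨y + y', minSpan.add_mem hy hy', z + z', fun i => ⟨?_, ?_⟩⟩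
    · simp only [vec, AddSubgroup.coe_add, Pi.add_apply]
      rw [show (y : GolayPt → ℤ) i = _ from (hz i).1, show (y' : GolayPt → ℤ) i = _ from (hz' i).1]
      ring
    · simp [(hz i).2, (hz' i).2]
  | smul a v _ hv =>
    rcases (by decide : ∀ a : ZMod 2, a = 0 ∨ a = 1) a with rfl | rfl
    · exact ⟨0, minSpan.zero_mem, 0, fun i => by simp⟩
    · rw [one_smul]; exact hv

theorem four_mem {u : leechLattice} (h4 : ∀ i, vec u i % 4 = 0) (hs : (∑ i, vec u i) % 8 = 0) :
    u ∈ minSpan := by
  have hk : ∀ i, ∃ k, vec u i = 4 * k := fun i => Int.dvd_of_emod_eq_zero (h4 i)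
  choose k hk using hk
  have hm : ∃ m, ∑ i, k i = 2 * m := by
    refine Int.dvd_of_emod_eq_zero ?_
    simp only [hk, ← Finset.mul_sum] at hs
    omega
  obtain ⟨m, hm⟩ := hm
  have e : u = ∑ i, k i • diff i + m • eightE none := by
    apply Subtype.ext
    rw [AddSubgroup.coe_add, AddSubgroup.val_finsetSum, AddSubgroup.coe_zsmul]
    funext j
    simp only [Pi.add_apply, Finset.sum_apply, AddSubgroup.coe_zsmul, Pi.smul_apply, diff, eightE,
      Pi.single_apply, smul_eq_mul, mul_add, Finset.sum_add_distrib, mul_ite, mul_zero,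
      Finset.sum_ite_eq, Finset.mem_univ, if_true]
    rw [show (u : GolayPt → ℤ) j = _ from hk j]
    by_cases hj : j = none
    · subst hj
      simp only [if_true]
      rw [← Finset.sum_mul, hm]
      ring
    · simp [hj]; ring
  rw [e]
  exact minSpan.add_mem (minSpan.sum_mem fun i _ => minSpan.zsmul_mem (diff_mem i) _)
    (minSpan.zsmul_mem eight_none_mem _)

theorem even_mem {u : leechLattice} (hu : EvenVec (vec u)) : u ∈ minSpan := by
  obtain ⟨y, hy, z, hz⟩ := code_lift (isCode_iff.mp hu.2.1)
  have h4 : ∀ i, vec (u - y) i % 4 = 0 := by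
    intro i
    have h1 := hu.1 i
    obtain ⟨hy1, hz1⟩ := hz i
    simp only [vec, AddSubgroup.coe_sub, Pi.sub_apply] at hy1 ⊢
    by_cases h : i ∈ res 2 (vec u)
    · rw [ind, if_pos h] at hz1
      have h2 : (2 : ℤ) ∣ z i - 1 := by
        apply (ZMod.intCast_zmod_eq_zero_iff_dvd _ 2).mp
        simp [hz1]
      rw [mem_res] at h
      simp only [vec] at h h1
      omega
    · rw [ind, if_neg h] at hz1
      have h2 := (ZMod.intCast_zmod_eq_zero_iff_dvd (z i) 2).mp hz1
      rw [mem_res] at h
      simp only [vec] at h h1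
      omega
  have hs : (∑ i, vec (u - y) i) % 8 = 0 := by
    rcases mem_leech_iff.mp (u - y).2 with h | h
    · exact h.2.2
    · have := h.1 none
      have := h4 none
      simp only [vec] at *
      omega
  have := four_mem h4 hs
  simpa using minSpan.add_mem this hy

theorem minSpan_eq_top : minSpan = ⊤ := by
  rw [eq_top_iff]
  intro v _
  rcases mem_leech_iff.mp v.2 with h | h
  · exact even_mem h
  · set o : leechLattice := ⟨oddBase none, oddBase_mem none⟩
    have ho : ∀ i, vec o i % 2 = 1 := fun i => by
      show oddBase none i % 2 = 1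
      simp only [oddBase]; split_ifs <;> rfl
    have he : EvenVec (vec (v - o)) := by
      rcases mem_leech_iff.mp (v - o).2 with h' | h'
      · exact h'
      · have := h'.1 none
        have := h.1 none
        have := ho none
        simp only [vec, AddSubgroup.coe_sub, Pi.sub_apply] at *
        omega
    simpa using minSpan.add_mem (even_mem he) (mem_of_norm (v := o) oddBase_norm)

end Cfsg.Agent.Lib.LeechMod2.MinSpan
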