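import Cfsg.Agent.Lib.LeechMod2.Axes

/-!
The stabiliser of a pair `±v` of minimal vectors has no normal 2-subgroup beyond `±1`.
-/

set_option autoImplicit false

namespace Cfsg.Agent.Lib.LeechMod2.StabMin

open Cfsg Cfsg.Agent.Lib.Leech Cfsg.Agent.Lib.LeechMod2.Axes
open scoped Pointwise symmDiff

/-- The stabiliser of a vector up to sign. -/
def stabPm (v : leechLattice) : Subgroup Co0 where
  carrier := {g | g • v = v ∨ g • v = -v}
  one_mem' := Or.inl (one_smul _ _)
  mul_mem' := fun {g h} hg hh => by
    show (g * h) • v = v ∨ (g * h) • v = -v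
    rcases hg with hg | hg <;> rcases hh with hh | hh <;> simp [mul_smul, hg, hh, smul_neg']
  inv_mem' := fun {g} hg => by
    rcases hg with hg | hg
    · exact Or.inl (by conv_lhs => rw [← hg]; simp)
    · refine Or.inr ?_
      have h := congrArg (fun x => g⁻¹ • x) hg
      simp only [inv_smul_smul, smul_neg'] at h
      exact (neg_eq_iff_eq_neg.mpr h).symm

/-- Two fours at two positions. -/
def pair4 (a b : GolayPt) (s : ℤ) (hs : (1 + s) % 2 = 0) : leechLattice :=
  ⟨Pi.single a (4 * 1) + Pi.single b (4 * s), four_pm_mem 1 s hs⟩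

/-- The standard minimal vector. -/
def v0 : leechLattice := pair4 none (some 0) 1 rfl

/-- Its partner: the sum of the two is an axis. -/
def w0 : leechLattice := pair4 none (some 0) (-1) rfl

theorem pair4_apply (a b : GolayPt) (s : ℤ) (hs : (1 + s) % 2 = 0) (k : GolayPt) :
    vec (pair4 a b s hs) k = (if k = a then 4 else 0) + (if k = b then 4 * s else 0) := by
  simp [pair4, vec, Pi.single_apply]

theorem v0_add_w0 : v0 + w0 = eightE none := by
  apply Subtype.ext
  funext k
  show vec v0 k + vec w0 k = vec (eightE none) k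
  rw [v0, w0, pair4_apply, pair4_apply, eightE_apply]
  split_ifs <;> norm_num

theorem pair_facts : ∀ a b : GolayPt, a ≠ b →
    (∑ k, ((if k = a then (4 : ℤ) else 0) + (if k = b then 4 * 1 else 0)) ^ 2) = 32 ∧
    (∑ k, ((if k = a then (4 : ℤ) else 0) + (if k = b then 4 * (-1) else 0)) ^ 2) = 32 ∧
    ((a ≠ none ∧ a ≠ some 0 ∧ b ≠ none ∧ b ≠ some 0) →
      (∑ k, ((if k = (none : GolayPt) then (4 : ℤ) else 0) + (if k = some 0 then 4 * 1 else 0)) *
        ((if k = a then (4 : ℤ) else 0) + (if k = b then 4 * 1 else 0))) = 0) := by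
  decide +kernel

theorem base_facts :
    sqNorm (vec v0) = 32 ∧ sqNorm (vec w0) = 32 ∧ dotInt (vec v0) (vec w0) = 0 := by
  simp only [sqNorm, dotInt, v0, w0, pair4_apply]
  decide +kernel

/-- The minimal vectors orthogonal to the standard one. -/
def orth0 : Set leechLattice := {w | sqNorm (vec w) = 32 ∧ dotInt (vec v0) (vec w) = 0}

/-- The vectors `4 e none ± 4 e k`. -/
theorem near_none {u : leechLattice} (hu : sqNorm (vec u) = 32) (hn : vec u none = 4) :
    ∃ k, k ≠ none ∧ (u = pair4 none k 1 rfl ∨ u = pair4 none k (-1) rfl) := by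
  classical
  have hsum : ∑ k ∈ Finset.univ.erase none, vec u k ^ 2 = 16 := by
    have h := Finset.add_sum_erase Finset.univ (fun k => vec u k ^ 2) (Finset.mem_univ none)
    simp only [sqNorm] at hu
    rw [hu, hn] at h
    linarith
  rcases mem_leech_iff.mp u.2 with he | ho
  · have hres : res 2 (vec u) = ∅ := by
      by_contra hne
      rw [← ne_eq, ← Finset.nonempty_iff_ne_empty] at hne
      have h8 := Golay.eight_le_card he.2.1 hne
      have h1 : ∑ k ∈ res 2 (vec u), (4 : ℤ) ≤ ∑ k ∈ res 2 (vec u), vec u k ^ 2 := by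
        refine Finset.sum_le_sum fun k hk => ?_
        have := mem_res.mp hk
        have : 2 ≤ vec u k ∨ vec u k ≤ -2 := by omega
        rcases this with h | h <;> nlinarith
      have h2 := Finset.sum_le_sum_of_subset_of_nonneg (s := res 2 (vec u))
        (t := Finset.univ.erase none) (f := fun k => vec u k ^ 2)
        (fun k hk => Finset.mem_erase.mpr ⟨by
          rintro rfl
          have := mem_res.mp hk
          rw [hn] at this
          norm_num at this, Finset.mem_univ _⟩)
        (fun k _ _ => sq_nonneg _)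
      simp only [Finset.sum_const, nsmul_eq_mul] at h1
      have h3 : (8 : ℤ) ≤ ((res 2 (vec u)).card : ℤ) := by exact_mod_cast h8
      linarith
    obtain ⟨k, hk, hk0⟩ : ∃ k ∈ Finset.univ.erase (none : GolayPt), vec u k ≠ 0 := by
      by_contra hall
      push Not at hall
      rw [Finset.sum_eq_zero (fun k hk => by rw [hall k hk]; norm_num)] at hsum
      norm_num at hsum
    have h4 : ∀ l, vec u l % 4 = 0 := fun l => by
      have := he.1 l
      have hl : l ∉ res 2 (vec u) := by rw [hres]; simp
      rw [mem_res] at hl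
      simp only [vec] at *
      omega
    have hsplit := Finset.add_sum_erase (Finset.univ.erase none) (fun l => vec u l ^ 2) hk
    rw [hsum] at hsplit
    have hk4 : vec u k = 4 ∨ vec u k = -4 := by
      have hnn : 0 ≤ ∑ l ∈ (Finset.univ.erase none).erase k, vec u l ^ 2 :=
        Finset.sum_nonneg fun l _ => sq_nonneg _
      have := h4 k
      have hb : -4 ≤ vec u k ∧ vec u k ≤ 4 := by
        constructor <;> nlinarith
      omega
    have hrest : ∀ l, l ≠ none → l ≠ k → vec u l = 0 := fun l h1 h2 => by
      have hz : ∑ l ∈ (Finset.univ.erase none).erase k, vec u l ^ 2 = 0 := by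
        rcases hk4 with e | e <;> rw [e] at hsplit <;> linarith
      have := (Finset.sum_eq_zero_iff_of_nonneg (fun l _ => sq_nonneg _)).mp hz l
        (by simp [h1, h2])
      exact pow_eq_zero_iff two_ne_zero |>.mp this
    have hkn := (Finset.mem_erase.mp hk).1
    refine ⟨k, hkn, ?_⟩
    rcases hk4 with e | e
    · left
      apply Subtype.ext; funext l
      show vec u l = vec (pair4 none k 1 rfl) l
      rw [pair4_apply]
      by_cases h1 : l = none
      · subst h1; simp [hn, Ne.symm hkn]
      by_cases h2 : l = k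
      · subst h2; simp [e, h1]
      simp [hrest l h1 h2, h1, h2]
    · right
      apply Subtype.ext; funext l
      show vec u l = vec (pair4 none k (-1) rfl) l
      rw [pair4_apply]
      by_cases h1 : l = none
      · subst h1; simp [hn, Ne.symm hkn]
      by_cases h2 : l = k
      · subst h2; simp [e, h1]
      simp [hrest l h1 h2, h1, h2]
  · have := ho.1 none
    simp only [vec] at hn
    omega

/-- The stabiliser of the standard axis is transitive on the minimal vectors meeting it in `32`. -/
theorem transitive_near {u : leechLattice} (hu : sqNorm (vec u) = 32) (hn : vec u none = 4) :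
    ∃ h : Co0, h • eightE none = eightE none ∧ h • u = v0 := by
  obtain ⟨k, hk, hu'⟩ := near_none hu hn
  obtain ⟨σ, hσ, hσn, hσk⟩ := Golay.exists_map_two (Ne.symm hk) (show (none : GolayPt) ≠ some 0 by simp)
  obtain ⟨c, hc, hck, hcn⟩ : ∃ c, IsCode c ∧ some 0 ∈ c ∧ none ∉ c :=
    separated (show (some 0 : GolayPt) ≠ none by simp)
  have hmf : monomial σ hσ ∅ isCode_empty • eightE none = eightE none := by
    rw [monomial_eightE, hσn]
  have hkey : ∀ (s : ℤ) (hs : (1 + s) % 2 = 0),
      monomial σ hσ ∅ isCode_empty • pair4 none k s hs = pair4 none (some 0) s hs := by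
    intro s hs
    apply Subtype.ext; funext l
    obtain ⟨l, rfl⟩ := σ.surjective l
    show vec (monomial σ hσ ∅ isCode_empty • pair4 none k s hs) (σ l) = vec (pair4 none (some 0) s hs) (σ l)
    have e1 : σ l = none ↔ l = none := by
      rw [← σ.injective.eq_iff (a := l) (b := none), hσn]
    have e2 : σ l = some 0 ↔ l = k := by
      rw [← σ.injective.eq_iff (a := l) (b := k), hσk]
    rw [vec_perm, pair4_apply, pair4_apply]
    simp [e1, e2]
  rcases hu' with rfl | rfl
  · exact ⟨monomial σ hσ ∅ isCode_empty, hmf, hkey 1 rfl⟩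
  · refine ⟨Leech.flip c hc * monomial σ hσ ∅ isCode_empty, ?_, ?_⟩
    · rw [mul_smul, hmf]
      apply Subtype.ext; funext l
      show vec (Leech.flip c hc • eightE none) l = vec (eightE none) l
      rw [flip_smul, eightE_apply]
      split_ifs with h1 h2 <;> simp_all
    · rw [mul_smul, hkey]
      apply Subtype.ext; funext l
      show vec (Leech.flip c hc • pair4 none (some 0) (-1) rfl) l = vec v0 l
      rw [flip_smul, v0, pair4_apply, pair4_apply]
      by_cases h1 : l = none
      · subst h1; simp [hcn]
      by_cases h2 : l = some 0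
      · subst h2; simp [hck]
      simp [h1, h2]

theorem dot_eight (u : leechLattice) : dotInt (vec (eightE none)) (vec u) = 8 * vec u none := by
  simp only [dotInt, eightE_apply, ite_mul, zero_mul]
  simp

theorem dot_add (a b c : leechLattice) :
    dotInt (vec (a + b)) (vec c) = dotInt (vec a) (vec c) + dotInt (vec b) (vec c) := by
  simp [dotInt, vec, add_mul, Finset.sum_add_distrib]

theorem dot_comm (a b : leechLattice) : dotInt (vec a) (vec b) = dotInt (vec b) (vec a) := by
  simp [dotInt, mul_comm]

theorem dot_neg_left (a b : leechLattice) :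
    dotInt (vec (-a)) (vec b) = -dotInt (vec a) (vec b) := by
  simp [dotInt, vec, Finset.sum_neg_distrib]

theorem orth0_transitive {w : leechLattice} (hw : w ∈ orth0) :
    ∃ g : Co0, g • v0 = v0 ∧ g • w = w0 := by
  obtain ⟨hw32, hw0⟩ := hw
  have h64 : sqNorm (vec (v0 + w)) = 64 := by
    have := sqNorm_add (vec v0) (vec w)
    have h1 := base_facts.1
    simp only [vec, AddSubgroup.coe_add] at *
    rw [this, h1, hw32, hw0]
    norm_num
  obtain ⟨g, hg⟩ := transitive64 h64
  have hn : vec (g • v0) none = 4 := by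
    have h := dot_smul g (v0 + w) v0
    rw [hg, dot_eight, dot_add] at h
    have h1 : dotInt (vec v0) (vec v0) = 32 := by
      rw [← base_facts.1]; simp [dotInt, sqNorm, pow_two]
    rw [h1, dot_comm w v0, hw0] at h
    omega
  obtain ⟨h, hf, hh⟩ := transitive_near (u := g • v0) (by rw [norm_smul', base_facts.1]) hn
  refine ⟨h * g, by rw [mul_smul, hh], ?_⟩
  have e : g • w = eightE none - g • v0 := by rw [← hg, smul_add', add_sub_cancel_left]
  rw [mul_smul, e, smul_sub', hf, hh, ← v0_add_w0, add_sub_cancel_left]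

/-- The vectors `4 e none ± 4 e k`, as a function. -/
def nearVec (p : {k : GolayPt // k ≠ none} × Bool) : leechLattice :=
  if p.2 then pair4 none p.1.1 1 rfl else pair4 none p.1.1 (-1) rfl

theorem nearVec_none (p : {k : GolayPt // k ≠ none} × Bool) : vec (nearVec p) none = 4 := by
  obtain ⟨⟨k, hk⟩, b⟩ := p
  cases b <;> simp [nearVec, pair4_apply, Ne.symm hk]

theorem nearVec_norm (p : {k : GolayPt // k ≠ none} × Bool) : sqNorm (vec (nearVec p)) = 32 := by
  obtain ⟨⟨k, hk⟩, b⟩ := p
  obtain ⟨h1, h2, -⟩ := pair_facts none k (Ne.symm hk)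
  cases b
  · simpa [nearVec, sqNorm, pair4_apply] using h2
  · simpa [nearVec, sqNorm, pair4_apply] using h1

theorem nearVec_injective : Function.Injective nearVec := by
  rintro ⟨⟨a, ha⟩, b⟩ ⟨⟨c, hc⟩, d⟩ h
  have e := congrFun (congrArg vec h) a
  cases b <;> cases d <;>
    simp only [nearVec, Bool.false_eq_true, if_false, if_true, pair4_apply, ha, hc] at e <;>
    (by_cases hac : a = c) <;>
    simp_all

theorem orbit_near :
    MulAction.orbit (MulAction.stabilizer Co0 (eightE none)) v0 = Set.range nearVec := by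
  ext u
  constructor
  · rintro ⟨⟨g, hg⟩, rfl⟩
    have hg' : g • eightE none = eightE none := hg
    have hn : vec (g • v0) none = 4 := by
      have h := dot_smul g (eightE none) v0
      rw [hg', dot_eight, dot_eight] at h
      have : vec v0 none = 4 := by simp [v0, pair4_apply]
      omega
    obtain ⟨k, hk, h⟩ := near_none (u := g • v0) (by rw [norm_smul', base_facts.1]) hn
    rcases h with h | h
    · exact ⟨(⟨k, hk⟩, true), by show nearVec _ = g • v0; rw [h]; rfl⟩
    · exact ⟨(⟨k, hk⟩, false), by show nearVec _ = g • v0; rw [h]; rfl⟩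
  · rintro ⟨p, rfl⟩
    obtain ⟨h, hf, hh⟩ := transitive_near (nearVec_norm p) (nearVec_none p)
    refine ⟨⟨h⁻¹, (MulAction.stabilizer Co0 (eightE none)).inv_mem hf⟩, ?_⟩
    show h⁻¹ • v0 = _
    rw [← hh, inv_smul_smul]

theorem ncard_orbit_v0 : (MulAction.orbit Co0 v0).ncard = 196560 := by
  rw [← ncard_norm32, ← Set.ncard_image_of_injective _ (Subtype.val_injective :
    Function.Injective (fun v : leechLattice => (v : GolayPt → ℤ)))]
  congr 1
  ext x
  constructor
  · rintro ⟨_, ⟨g, rfl⟩, rfl⟩
    exact ⟨(g • v0).2, (norm_smul' g _).trans base_facts.1⟩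
  · rintro ⟨hx, hn⟩
    obtain ⟨g₁, h₁⟩ := transitive32 (p := none) (q := some 0) (by simp) (v := ⟨x, hx⟩) hn
    obtain ⟨g₂, h₂⟩ := transitive32 (p := none) (q := some 0) (by simp) (v := v0) base_facts.1
    obtain ⟨g, hg⟩ := exists_smul_eq_of (h₂.trans h₁.symm)
    exact ⟨⟨x, hx⟩, ⟨g, hg⟩, rfl⟩

theorem ncard_orth0 : orth0.ncard = 93150 := by
  have horb : MulAction.orbit (MulAction.stabilizer Co0 v0) w0 = orth0 := by
    ext w
    constructor
    · rintro ⟨⟨g, hg⟩, rfl⟩
      have hg' : g • v0 = v0 := hg
      refine ⟨(norm_smul' g w0).trans base_facts.2.1, ?_⟩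
      show dotInt (vec v0) (vec (g • w0)) = 0
      rw [← hg', dot_smul]
      exact base_facts.2.2
    · intro hw
      obtain ⟨g, hgv, hgw⟩ := orth0_transitive hw
      exact ⟨⟨g⁻¹, (MulAction.stabilizer Co0 v0).inv_mem hgv⟩, by
        show g⁻¹ • w0 = w; rw [← hgw, inv_smul_smul]⟩
  have hA := Subgroup.card_mul_index (MulAction.stabilizer Co0 v0)
  rw [MulAction.index_stabilizer, ncard_orbit_v0, card_co0] at hA
  have hB := Subgroup.card_mul_index
    (MulAction.stabilizer (MulAction.stabilizer Co0 (eightE none)) v0)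
  have hdom : Nat.card ({k : GolayPt // k ≠ none} × Bool) = 46 := by
    rw [Nat.card_eq_fintype_card]
    decide +kernel
  rw [MulAction.index_stabilizer, orbit_near, Set.ncard_range_of_injective nearVec_injective,
    card_stabilizer_eightE, hdom] at hB
  have hC := Subgroup.card_mul_index (MulAction.stabilizer (MulAction.stabilizer Co0 v0) w0)
  rw [MulAction.index_stabilizer, horb] at hC
  have e : Nat.card (MulAction.stabilizer (MulAction.stabilizer Co0 v0) w0) =
      Nat.card (MulAction.stabilizer (MulAction.stabilizer Co0 (eightE none)) v0) :=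
    Nat.card_congr
      { toFun := fun g => ⟨⟨g.1.1, by
            show g.1.1 • eightE none = eightE none
            have h1 : g.1.1 • v0 = v0 := g.1.2
            have h2 : g.1.1 • w0 = w0 := g.2
            rw [← v0_add_w0, smul_add', h1, h2]⟩, g.1.2⟩
        invFun := fun g => ⟨⟨g.1.1, g.2⟩, by
            show g.1.1 • w0 = w0
            have h1 : g.1.1 • eightE none = eightE none := g.1.2
            have h2 : g.1.1 • v0 = v0 := g.2
            rw [show w0 = eightE none - v0 by rw [← v0_add_w0, add_sub_cancel_left], smul_sub', h1, h2]⟩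
        left_inv := fun g => rfl
        right_inv := fun g => rfl }
  rw [e] at hC
  set A := Nat.card (MulAction.stabilizer Co0 v0)
  set B := Nat.card (MulAction.stabilizer (MulAction.stabilizer Co0 (eightE none)) v0)
  have hA' : A = 42305421312000 := by omega
  have hB' : B = 454164480 := by omega
  rw [hA', hB'] at hC
  omega

theorem pm_transport {g n : Co0} {w : leechLattice}
    (h : (g⁻¹ * n * g) • w = w ∨ (g⁻¹ * n * g) • w = -w) :
    n • (g • w) = g • w ∨ n • (g • w) = -(g • w) := by
  have e : n • (g • w) = g • ((g⁻¹ * n * g) • w) := by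
    rw [← mul_smul, ← mul_smul]; congr 1; group
  rcases h with h | h
  · exact Or.inl (by rw [e, h])
  · exact Or.inr (by rw [e, h, smul_neg'])

/-- A group element fixing the standard pair and all its orthogonal pairs is central. -/
theorem central_of_fix {n : Co0} (hv : n • v0 = v0 ∨ n • v0 = -v0)
    (hw : ∀ w ∈ orth0, n • w = w ∨ n • w = -w) : n ∈ Subgroup.center Co0 := by
  have hmem : ∀ a b : GolayPt, a ≠ b → a ≠ none → a ≠ some 0 → b ≠ none → b ≠ some 0 →
      pair4 a b 1 rfl ∈ orth0 := by
    intro a b hab h1 h2 h3 h4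
    obtain ⟨f1, -, f3⟩ := pair_facts a b hab
    refine ⟨?_, ?_⟩
    · simpa [sqNorm, pair4_apply] using f1
    · simpa [dotInt, v0, pair4_apply] using f3 ⟨h1, h2, h3, h4⟩
  -- the standard axis goes to an axis
  have hw0 := hw w0 ⟨base_facts.2.1, base_facts.2.2⟩
  have hax : Axis n := by
    have hsum : n • eightE none = n • v0 + n • w0 := by rw [← v0_add_w0, smul_add']
    have e1 : v0 - w0 = eightE (some 0) := by
      apply Subtype.ext; funext k
      show vec v0 k - vec w0 k = vec (eightE (some 0)) k
      rw [v0, w0, pair4_apply, pair4_apply, eightE_apply]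
      split_ifs <;> norm_num
    rcases hv with a | a <;> rcases hw0 with b | b <;> rw [a, b] at hsum
    · exact axis_of_one (i := none) (j := none) (Or.inl (by rw [hsum, v0_add_w0]))
    · exact axis_of_one (i := none) (j := some 0) (Or.inl (by rw [hsum, ← e1, sub_eq_add_neg]))
    · exact axis_of_one (i := none) (j := some 0) (Or.inr (by rw [hsum, ← e1]; abel))
    · exact axis_of_one (i := none) (j := none) (Or.inr (by rw [hsum, ← v0_add_w0]; abel))
  obtain ⟨σ, hσ, c, hc, rfl⟩ := exists_monomial hax
  have hval : ∀ (w : leechLattice) (k : GolayPt),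
      vec (monomial σ hσ c hc • w) (σ k) = if σ k ∈ c then -vec w k else vec w k := by
    intro w k
    rw [monomial_smul]; simp [signedPerm]
  -- supports are preserved
  have hpres : ∀ a b : GolayPt, a ≠ b → a ≠ none → a ≠ some 0 → b ≠ none → b ≠ some 0 →
      ∀ k, (k = a ∨ k = b) → (σ k = a ∨ σ k = b) := by
    intro a b hab h1 h2 h3 h4 k hk
    by_contra hcon
    push Not at hcon
    have e := hw _ (hmem a b hab h1 h2 h3 h4)
    have h5 := hval (pair4 a b 1 rfl) k
    have hpk : vec (pair4 a b 1 rfl) k = 4 := by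
      rw [pair4_apply]; rcases hk with rfl | rfl <;> simp [hab, Ne.symm hab]
    have hz : vec (pair4 a b 1 rfl) (σ k) = 0 := by
      rw [pair4_apply]; simp [hcon.1, hcon.2]
    rcases e with e | e <;> rw [e] at h5 <;>
      simp only [vec, AddSubgroup.coe_neg, Pi.neg_apply] at h5 hpk hz <;>
      split_ifs at h5 <;> omega
  have hfix : ∀ a : GolayPt, a ≠ none → a ≠ some 0 → σ a = a := by
    intro a h1 h2
    obtain ⟨b, d, hba, hda, hbd, hb1, hb2, hd1, hd2⟩ :=
      (by decide +kernel : ∀ a : GolayPt, ∃ b d : GolayPt, b ≠ a ∧ d ≠ a ∧ b ≠ d ∧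
        b ≠ none ∧ b ≠ some 0 ∧ d ≠ none ∧ d ≠ some 0) a
    rcases hpres a b hba.symm h1 h2 hb1 hb2 a (Or.inl rfl) with h | h
    · exact h
    rcases hpres a d hda.symm h1 h2 hd1 hd2 a (Or.inl rfl) with h' | h'
    · exact h'
    · exact absurd (h.symm.trans h') hbd
  have hσ1 : σ = 1 := by
    by_contra hne
    obtain ⟨d, hd, hd1, hd2⟩ := separated (show (none : GolayPt) ≠ some 0 by simp)
    have hsw : σ none = some 0 ∧ σ (some 0) = none := by
      have himg : ∀ x : GolayPt, (x = none ∨ x = some 0) → (σ x = none ∨ σ x = some 0) := by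
        intro x hx
        by_contra hcon
        push Not at hcon
        have := σ.injective (hfix _ hcon.1 hcon.2)
        rcases hx with rfl | rfl
        · exact hcon.1 this
        · exact hcon.2 this
      rcases himg none (Or.inl rfl) with a | a
      · exfalso
        apply hne
        ext x : 1
        by_cases h1 : x = none
        · rw [h1]; exact a
        by_cases h2 : x = some 0
        · rcases himg x (Or.inr h2) with b | b
          · exact absurd (σ.injective (b.trans a.symm)) h1
          · rw [b, h2]; rfl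
        exact hfix x h1 h2
      · refine ⟨a, ?_⟩
        rcases himg _ (Or.inr rfl) with b | b
        · exact b
        · exact absurd (σ.injective (b.trans a.symm)) (by simp)
    have hsd : (σ • d) ∆ d = ({none, some 0} : Finset GolayPt) := by
      ext x
      obtain ⟨y, rfl⟩ := σ.surjective x
      rw [Finset.mem_symmDiff, ← Equiv.Perm.smul_def, Finset.smul_mem_smul_finset_iff,
        Equiv.Perm.smul_def]
      by_cases h1 : y = none
      · subst h1; rw [hsw.1]; simp [hd1, hd2]
      by_cases h2 : y = some 0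
      · subst h2; rw [hsw.2]; simp [hd1, hd2]
      rw [hfix y h1 h2]
      simp [h1, h2]
    have hcode : IsCode ((σ • d) ∆ d) :=
      (smul_eq_map σ d ▸ IsCode.map hσ hd : IsCode (σ • d)).symmDiff hd
    have := Golay.eight_le_card hcode (by rw [hsd]; simp)
    rw [hsd] at this
    simp at this
  subst hσ1
  have hflip : ∀ (w : leechLattice) (a b : GolayPt), vec w a ≠ 0 → vec w b ≠ 0 →
      (monomial 1 hσ c hc • w = w ∨ monomial 1 hσ c hc • w = -w) → (a ∈ c ↔ b ∈ c) := by
    intro w a b ha hb hor
    have e1 := hval w a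
    have e2 := hval w b
    simp only [Equiv.Perm.coe_one, id_eq] at e1 e2
    rcases hor with e | e <;> rw [e] at e1 e2 <;>
      simp only [vec, AddSubgroup.coe_neg, Pi.neg_apply] at ha hb e1 e2 <;>
      by_cases h1 : a ∈ c <;> by_cases h2 : b ∈ c <;>
      simp only [h1, h2, if_true, if_false] at e1 e2 ⊢ <;> omega
  have hv0ne : vec v0 none ≠ 0 ∧ vec v0 (some 0) ≠ 0 := by simp [v0, pair4_apply]
  have hnj := hflip v0 none (some 0) hv0ne.1 hv0ne.2 hv
  have hkl : ∀ a : GolayPt, a ≠ none → a ≠ some 0 → (a ∈ c ↔ some 1 ∈ c) := by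
    intro a h1 h2
    by_cases ha : a = some 1
    · rw [ha]
    refine hflip (pair4 a (some 1) 1 rfl) a (some 1) ?_ ?_
      (hw _ (hmem a (some 1) ha h1 h2 (by simp) (by decide +kernel)))
    · simp [pair4_apply, ha]
    · simp [pair4_apply, Ne.symm ha]
  have h22 : ((Finset.univ : Finset GolayPt) \ {none, some 0}).card = 22 := by decide +kernel
  have hwt := Golay.card_of_mem_supports hc
  by_cases h1 : (none : GolayPt) ∈ c <;> by_cases h2 : (some 1 : GolayPt) ∈ c
  · have : monomial 1 hσ c hc = negOne := by
      have : c = Finset.univ := Finset.eq_univ_iff_forall.mpr fun a => by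
        by_cases ha : a = none
        · exact ha ▸ h1
        by_cases ha' : a = some 0
        · exact ha' ▸ hnj.mp h1
        exact (hkl a ha ha').mpr h2
      subst this
      rfl
    rw [this]
    exact negOne_mem_center
  · exfalso
    have : c = {none, some 0} := by
      ext a
      by_cases ha : a = none
      · simp [ha, h1]
      by_cases ha' : a = some 0
      · simp [ha', hnj.mp h1]
      simp [ha, ha', mt (hkl a ha ha').mp h2]
    rw [this] at hwt
    simp at hwt
  · exfalso
    have : c = Finset.univ \ {none, some 0} := by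
      ext a
      by_cases ha : a = none
      · simp [ha, h1]
      by_cases ha' : a = some 0
      · simp [ha', mt hnj.mpr h1]
      simp [ha, ha', (hkl a ha ha').mpr h2]
    rw [this, h22] at hwt
    omega
  · have : c = ∅ := Finset.eq_empty_of_forall_notMem fun a hac => by
      by_cases ha : a = none
      · exact h1 (ha ▸ hac)
      by_cases ha' : a = some 0
      · exact h1 (hnj.mpr (ha' ▸ hac))
      exact h2 ((hkl a ha ha').mp hac)
    subst this
    have : monomial 1 hσ ∅ hc = 1 := co0_ext fun i => by
      rw [monomial_eightE, one_smul]; rfl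
    rw [this]
    exact one_mem _

theorem central_std (N : Subgroup Co0) (hN : N ≤ stabPm v0)
    (hnorm : ∀ x ∈ stabPm v0, ∀ n ∈ N, x * n * x⁻¹ ∈ N) (hp : IsPGroup 2 N) :
    N ≤ Subgroup.center Co0 := by
  classical
  let T : Set (Finset leechLattice) := (fun w => ({w, -w} : Finset leechLattice)) '' orth0
  have horth : ∀ x ∈ stabPm v0, ∀ w ∈ orth0, x • w ∈ orth0 := by
    intro x hx w hw
    refine ⟨(norm_smul' x w).trans hw.1, ?_⟩
    show dotInt (vec v0) (vec (x • w)) = 0
    rcases hx with h | h
    · rw [← h, dot_smul]; exact hw.2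
    · have h' : x • (-v0) = v0 := by rw [smul_neg', h, neg_neg]
      rw [← h', dot_smul]
      rw [dot_neg_left, hw.2, neg_zero]
  have hneg : ∀ w : leechLattice, w ∈ orth0 → -w ∈ orth0 := fun w hw => by
    refine ⟨?_, ?_⟩
    · show sqNorm (-(vec w)) = 32
      rw [sqNorm_neg]; exact hw.1
    · rw [dot_comm, dot_neg_left, dot_comm, hw.2, neg_zero]
  have hne : ∀ w ∈ orth0, w ≠ -w := by
    intro w hw h
    have h0 : vec w = 0 := by
      funext k
      have := congrFun (congrArg vec h) k
      simp [vec] at this ⊢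
      omega
    have := hw.1
    rw [h0] at this
    simp [sqNorm] at this
  have hsmul : ∀ (x : Co0) (w : leechLattice),
      x • ({w, -w} : Finset leechLattice) = {x • w, -(x • w)} := fun x w => by
    rw [Finset.smul_finset_insert, Finset.smul_finset_singleton, smul_neg']
  have hfin : orth0.Finite :=
    Set.finite_of_ncard_ne_zero (by rw [ncard_orth0]; norm_num)
  have hTcard : T.ncard * 2 = 93150 := by
    have hcount : (hfin.toFinset).card = (hfin.toFinset.image fun w => ({w, -w} : Finset leechLattice)).card * 2 := by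
      rw [Finset.card_eq_sum_card_image (fun w => ({w, -w} : Finset leechLattice)) hfin.toFinset,
        Finset.sum_const_nat (m := 2)]
      intro t ht
      obtain ⟨w, hw, rfl⟩ := Finset.mem_image.mp ht
      rw [Set.Finite.mem_toFinset] at hw
      rw [show (hfin.toFinset.filter fun u => ({u, -u} : Finset leechLattice) = {w, -w}) = {w, -w}
        from ?_, Finset.card_pair (hne w hw)]
      ext u
      simp only [Finset.mem_filter, Set.Finite.mem_toFinset, Finset.mem_insert, Finset.mem_singleton]
      constructor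
      · rintro ⟨-, h⟩
        have : u ∈ ({w, -w} : Finset leechLattice) := h ▸ Finset.mem_insert_self u _
        simpa using this
      · rintro (rfl | rfl)
        · exact ⟨hw, rfl⟩
        · exact ⟨hneg w hw, by rw [neg_neg, Finset.pair_comm]⟩
    rw [← Set.ncard_eq_toFinset_card orth0 hfin, ncard_orth0] at hcount
    have : T = ↑(hfin.toFinset.image fun w => ({w, -w} : Finset leechLattice)) := by
      simp [T]
    rw [this, Set.ncard_coe_finset]
    exact hcount.symm
  have hTinv : ∀ x ∈ stabPm v0, ∀ t ∈ T, x • t ∈ T := by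
    rintro x hx _ ⟨w, hw, rfl⟩
    exact ⟨x • w, horth x hx w hw, (hsmul x w).symm⟩
  let _act : MulAction N T :=
    { smul := fun n t => ⟨(n : Co0) • t.1, hTinv _ (hN n.2) _ t.2⟩
      one_smul := fun t => Subtype.ext (one_smul Co0 t.1)
      mul_smul := fun a b t => Subtype.ext (mul_smul (a : Co0) (b : Co0) t.1) }
  have : Fact (Nat.Prime 2) := ⟨Nat.prime_two⟩
  have : Finite T := (hfin.image (fun w => ({w, -w} : Finset leechLattice))).to_subtype
  obtain ⟨⟨t, w1, hw1, rfl⟩, ht⟩ := hp.nonempty_fixed_point_of_prime_not_dvd_card T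
    (by rw [Nat.card_coe_set_eq]; omega)
  have hfix1 : ∀ n ∈ N, n • w1 = w1 ∨ n • w1 = -w1 := by
    intro n hn
    have h := congrArg Subtype.val (ht ⟨n, hn⟩)
    change n • ({w1, -w1} : Finset leechLattice) = {w1, -w1} at h
    rw [hsmul] at h
    have hmem : n • w1 ∈ ({w1, -w1} : Finset leechLattice) := h ▸ Finset.mem_insert_self _ _
    simpa using hmem
  intro n hn
  refine central_of_fix (hN hn) fun w hw => ?_
  obtain ⟨a, ha, haw⟩ := orth0_transitive hw1
  obtain ⟨b, hb, hbw⟩ := orth0_transitive hw
  have hgw : (b⁻¹ * a) • w1 = w := by rw [mul_smul, haw, ← hbw, inv_smul_smul]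
  rw [← hgw]
  refine pm_transport (hfix1 _ ?_)
  have hx : (b⁻¹ * a)⁻¹ ∈ stabPm v0 :=
    (stabPm v0).inv_mem (mul_mem ((stabPm v0).inv_mem (Or.inl hb)) (Or.inl ha))
  simpa using hnorm _ hx n hn

/-- A normal 2-subgroup of the stabiliser of `±v` is central. -/
theorem two_subgroup_central {v : leechLattice} (hv : sqNorm (vec v) = 32) (N : Subgroup Co0)
    (hN : N ≤ stabPm v) (hnorm : ∀ x ∈ stabPm v, ∀ n ∈ N, x * n * x⁻¹ ∈ N) (hp : IsPGroup 2 N) :
    N ≤ Subgroup.center Co0 := by
  obtain ⟨g₁, h₁⟩ := transitive32 (p := none) (q := some 0) (by simp) hv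
  obtain ⟨g₂, h₂⟩ := transitive32 (p := none) (q := some 0) (by simp) (v := v0) base_facts.1
  obtain ⟨g, hg⟩ := exists_smul_eq_of (h₁.trans h₂.symm)
  have key : ∀ x, x ∈ stabPm v0 → g⁻¹ * x * g ∈ stabPm v := by
    intro x hx
    rcases hx with h | h
    · exact Or.inl (by rw [mul_smul, mul_smul, hg, h, ← hg, inv_smul_smul])
    · exact Or.inr (by rw [mul_smul, mul_smul, hg, h, ← hg, ← smul_neg', inv_smul_smul])
  have hle := central_std (N.map (MulAut.conj g).toMonoidHom) ?_ ?_ (hp.map _)
  · intro n hn
    have h := hle ⟨n, hn, rfl⟩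
    simp only [MulEquiv.coe_toMonoidHom, MulAut.conj_apply] at h
    have := Subgroup.Normal.conj_mem (inferInstance : (Subgroup.center Co0).Normal) _ h g⁻¹
    simpa [mul_assoc] using this
  · rintro _ ⟨n, hn, rfl⟩
    simp only [MulEquiv.coe_toMonoidHom, MulAut.conj_apply]
    show (g * n * g⁻¹) • v0 = v0 ∨ (g * n * g⁻¹) • v0 = -v0
    have hi : g⁻¹ • v0 = v := by rw [← hg, inv_smul_smul]
    rcases hN hn with h | h
    · exact Or.inl (by rw [mul_smul, mul_smul, hi, h, hg])
    · exact Or.inr (by rw [mul_smul, mul_smul, hi, h, smul_neg', hg])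
  · rintro x hx _ ⟨n, hn, rfl⟩
    refine ⟨_, hnorm _ (key x hx) n hn, ?_⟩
    simp only [MulEquiv.coe_toMonoidHom, MulAut.conj_apply]
    group

end Cfsg.Agent.Lib.LeechMod2.StabMin
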