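import Cfsg.Agent.S5408
import Cfsg.Agent.Lib.LeechMod2.StabMin
import Cfsg.Agent.Lib.SporStruct.LatticeClasses
import Cfsg.Agent.Lib.Leech.MinIndex
import Cfsg.Agent.Lib.Cores.Basic
import Cfsg.Prelude.Def_MonsterType

/-!
Involutions of `Q` in a group of Monster type at `z`: two classes in `C(z)`, told apart by
conjugacy to `z`.
-/

set_option autoImplicit false

namespace Cfsg.Agent.Lib.LeechMod2.MonsterCore

open Cfsg Cfsg.Agent.Lib.Leech

universe u

/-! ### extraspecial groups: squares and abelian subgroups -/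

section Group

variable {P : Type u} [Group P]

theorem card_center_two_cases (hc : Nat.card (Subgroup.center P) = 2) {a b : P}
    (ha : a ∈ Subgroup.center P) (hb : b ∈ Subgroup.center P) (ha1 : a ≠ 1) (hb1 : b ≠ 1) :
    a = b := by
  obtain ⟨x, -, hx⟩ := (Nat.card_eq_two_iff' (1 : Subgroup.center P)).mp hc
  exact congrArg Subtype.val ((hx ⟨a, ha⟩ fun h => ha1 (congrArg Subtype.val h)).trans
    (hx ⟨b, hb⟩ fun h => hb1 (congrArg Subtype.val h)).symm)

open Cfsg.Agent.S5408 (kk kk_mem kk_mul indic indic_mul)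

theorem kk_eq_one {a b : P} : kk a b = 1 ↔ Commute a b := by
  constructor
  · intro h
    have : b * a = a * b := by
      calc b * a = a * b * kk a b := by simp only [kk]; group
        _ = a * b := by rw [h, mul_one]
    exact this.symm
  · intro h
    have e : kk a b = (a * b)⁻¹ * (b * a) := by simp only [kk]; group
    rw [e, h.eq, inv_mul_cancel]

/-- An abelian subgroup of a group with derived subgroup inside a centre of order two. -/
theorem card_sq_le [Finite P] (hcom : commutator P = Subgroup.center P)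
    (hc : Nat.card (Subgroup.center P) = 2) (A : Subgroup P)
    (hA : ∀ a ∈ A, ∀ b ∈ A, Commute a b) : Nat.card A * Nat.card A ≤ 2 * Nat.card P := by
  classical
  have := Fintype.ofFinite P
  let sgn : P → ℤ := fun c => if c = 1 then 1 else -1
  have hsgn : ∀ a b, a ∈ Subgroup.center P → b ∈ Subgroup.center P →
      sgn (a * b) = sgn a * sgn b := by
    intro a b ha hb
    by_cases h1 : a = 1
    · simp [h1, sgn]
    by_cases h2 : b = 1
    · simp [h2, sgn]
    have e : b = a⁻¹ := card_center_two_cases hc hb (Subgroup.inv_mem _ ha) h2 (by simpa using h1)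
    simp [sgn, h1, h2, e]
  have hflip : ∀ a b : P, kk a b = (kk b a)⁻¹ := fun a b => by simp only [kk]; group
  have hinner : ∀ a ∈ A, a ∉ Subgroup.center P → ∑ p : P, sgn (kk p a) = 0 := by
    intro a _ ha
    obtain ⟨p0, hp0⟩ : ∃ p0, kk p0 a ≠ 1 := by
      by_contra h
      push Not at h
      exact ha (Subgroup.mem_center_iff.mpr fun p => (kk_eq_one.mp (h p)).eq)
    have h := Equiv.sum_comp (Equiv.mulRight p0) fun p => sgn (kk p a)
    simp only [Equiv.coe_mulRight, kk_mul hcom, hsgn _ _ (kk_mem hcom _ _) (kk_mem hcom _ _)] at h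
    rw [← Finset.sum_mul, show sgn (kk p0 a) = -1 from if_neg hp0] at h
    linarith
  have hS1 : ∑ p : P, ∑ a : A, sgn (kk p a) ≤ 2 * (Fintype.card P : ℤ) := by
    rw [Finset.sum_comm]
    calc ∑ a : A, ∑ p : P, sgn (kk p a)
        ≤ ∑ a : A, if (a : P) ∈ Subgroup.center P then (Fintype.card P : ℤ) else 0 := by
          refine Finset.sum_le_sum fun a _ => ?_
          split_ifs with h
          · calc ∑ p : P, sgn (kk p a) ≤ ∑ _p : P, (1 : ℤ) :=
                Finset.sum_le_sum fun p _ => by simp only [sgn]; split_ifs <;> norm_num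
              _ = _ := by simp
          · exact (hinner _ a.2 h).le
      _ ≤ 2 * (Fintype.card P : ℤ) := by
          rw [← Finset.sum_filter, Finset.sum_const, nsmul_eq_mul]
          refine mul_le_mul_of_nonneg_right ?_ (by positivity)
          have hle : (Finset.univ.filter fun a : A => (a : P) ∈ Subgroup.center P).card ≤ 2 := by
            rw [← hc, Nat.card_eq_fintype_card (α := Subgroup.center P)]
            refine Finset.card_le_card_of_injOn
              (fun a => if h : (a : P) ∈ Subgroup.center P then (⟨a, h⟩ : Subgroup.center P) else 1)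
              (fun _ _ => Finset.mem_univ _) ?_
            intro a ha b hb hab
            simp only [Finset.coe_filter, Finset.mem_univ, true_and, Set.mem_setOf_eq] at ha hb
            simp only [ha, hb, dif_pos] at hab
            exact Subtype.ext (congrArg (fun x : Subgroup.center P => (x : P)) hab)
          exact_mod_cast hle
  have hS2 : (Fintype.card A : ℤ) * Fintype.card A ≤ ∑ p : P, ∑ a : A, sgn (kk p a) := by
    have hterm : ∀ p : P, 0 ≤ ∑ a : A, sgn (kk p a) := by
      intro p
      by_cases h : ∀ a : A, kk p (a : P) = 1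
      · simp [sgn, h]
      · push Not at h
        obtain ⟨a0, ha0⟩ := h
        have hr : ∀ a : A, kk p ((a * a0 : A) : P) = kk p a * kk p a0 := fun a => by
          have h1 := Subgroup.mem_center_iff.mp (kk_mem hcom p (a : P))
          rw [hflip p, Subgroup.coe_mul, kk_mul hcom, mul_inv_rev, ← hflip, ← hflip, h1]
        have hsum := Equiv.sum_comp (Equiv.mulRight a0) fun a : A => sgn (kk p a)
        simp only [Equiv.coe_mulRight, hr, hsgn _ _ (kk_mem hcom _ _) (kk_mem hcom _ _)] at hsum
        rw [← Finset.sum_mul, show sgn (kk p a0) = -1 from if_neg ha0] at hsum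
        linarith
    calc (Fintype.card A : ℤ) * Fintype.card A
        = ∑ p : A, ∑ a : A, sgn (kk (p : P) a) := by
          have h : ∀ p a : A, sgn (kk (p : P) a) = 1 := fun p a =>
            if_pos (kk_eq_one.mpr (hA _ p.2 _ a.2))
          simp [h]
      _ = ∑ p ∈ Finset.univ.map (Function.Embedding.subtype (· ∈ A)), ∑ a : A, sgn (kk p a) := by
          rw [Finset.sum_map]; rfl
      _ ≤ _ := Finset.sum_le_sum_of_subset_of_nonneg (Finset.subset_univ _) fun p _ _ => hterm p
  rw [Nat.card_eq_fintype_card, Nat.card_eq_fintype_card]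
  exact_mod_cast hS2.trans hS1

end Group

/-! ### the setting -/

local notation "Cen[" z "]" => Subgroup.centralizer ({z} : Set _)

variable {G : Type u} [Group G] [Finite G] {z : G}
  {Q : Subgroup (Subgroup.centralizer ({z} : Set G))} [Q.Normal]

theorem z_mem_Q (hS : IsExtraspecialCentralizerSetting z Q 12) :
    (⟨z, Subgroup.mem_centralizer_singleton_iff.mpr rfl⟩ : Subgroup.centralizer ({z} : Set G)) ∈ Q := by
  rw [← hS.2.1]
  refine Subgroup.mem_sup_right (Cores.center_le_fittingSubgroup ?_)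
  rw [Subgroup.mem_center_iff]
  intro g
  exact Subtype.ext (Subgroup.mem_centralizer_singleton_iff.mp g.2)

/-- The element `z` of `Q`. -/
def zQ (hS : IsExtraspecialCentralizerSetting z Q 12) : Q := ⟨_, z_mem_Q hS⟩

theorem zQ_center (hS : IsExtraspecialCentralizerSetting z Q 12) : zQ hS ∈ Subgroup.center Q := by
  rw [Subgroup.mem_center_iff]
  intro g
  exact Subtype.ext (Subtype.ext (Subgroup.mem_centralizer_singleton_iff.mp g.1.2))

theorem center_cases (hS : IsExtraspecialCentralizerSetting z Q 12) {c : Q}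
    (hc : c ∈ Subgroup.center Q) : c = 1 ∨ c = zQ hS := by
  by_cases h : c = 1
  · exact Or.inl h
  refine Or.inr (card_center_two_cases hS.2.2.1.2 hc (zQ_center hS) h fun h0 => ?_)
  have : z = 1 := congrArg (fun q : Q => ((q : Subgroup.centralizer ({z} : Set G)) : G)) h0
  have h2 := hS.1
  rw [this, orderOf_one] at h2
  norm_num at h2

variable {e : (Subgroup.centralizer ({z} : Set G)) ⧸ Q ≃* Spor.Co1}
  {ψ : leechLattice → Q ⧸ Subgroup.center Q}

theorem psi_zero (hψ : IsLeechModTwoIso Q e ψ) : ψ 0 = 1 := (hψ.2.2.1 0).mpr ⟨0, by simp⟩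

theorem psi_eq_iff (hψ : IsLeechModTwoIso Q e ψ) (x y : leechLattice) :
    ψ x = ψ y ↔ ∃ t, x - y = t + t := by
  have h : ψ (x - y) * ψ y = ψ x := by rw [← hψ.1, sub_add_cancel]
  constructor
  · intro he
    refine (hψ.2.2.1 (x - y)).mp ?_
    rw [he] at h
    simpa using h
  · rintro ht
    rw [← h, (hψ.2.2.1 (x - y)).mpr ht, one_mul]

theorem psi_neg (hψ : IsLeechModTwoIso Q e ψ) (x : leechLattice) : ψ (-x) = ψ x :=
  (psi_eq_iff hψ _ _).mpr ⟨-x, by abel⟩

theorem psi_ne_one (hψ : IsLeechModTwoIso Q e ψ) {v : leechLattice}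
    (hv : sqNorm (vec v) = 32 ∨ sqNorm (vec v) = 48 ∨ sqNorm (vec v) = 64) : ψ v ≠ 1 := by
  intro h
  obtain ⟨w, hw⟩ := (hψ.2.2.1 v).mp h
  have e1 : sqNorm (vec v) = 4 * sqNorm (vec w) := by
    rw [hw]
    simp only [sqNorm, vec, AddSubgroup.coe_add, Pi.add_apply, Finset.mul_sum]
    exact Finset.sum_congr rfl fun i _ => by ring
  have hw0 : (w : GolayPt → ℤ) ≠ 0 := by
    intro h0
    simp only [vec] at e1
    rw [h0] at e1
    have e0 : sqNorm (vec v) = 0 := by
      simp only [vec]
      rw [e1]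
      simp [sqNorm]
    omega
  have := sqNorm_ge w.2 hw0
  simp only [vec] at *
  omega

theorem card_quot (hS : IsExtraspecialCentralizerSetting z Q 12) :
    Nat.card (Q ⧸ Subgroup.center Q) = 2 ^ 24 := by
  have h := Subgroup.card_eq_card_quotient_mul_card_subgroup (Subgroup.center Q)
  rw [hS.2.2.2.1, hS.2.2.1.2] at h
  omega

theorem exists_short (hS : IsExtraspecialCentralizerSetting z Q 12)
    (hψ : IsLeechModTwoIso Q e ψ) {q : Q} (hq : q ∉ Subgroup.center Q) :
    ∃ v : leechLattice, (sqNorm (vec v) = 32 ∨ sqNorm (vec v) = 48 ∨ sqNorm (vec v) = 64) ∧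
      ψ v = QuotientGroup.mk q := by
  let ip : leechLattice → leechLattice → ℤ := fun x y => dotInt (vec x) (vec y) / 8
  have h8 : ∀ x y, dotInt (vec x) (vec y) = 8 * ip x y := fun x y =>
    (Int.mul_ediv_cancel' (dotInt_dvd x.2 y.2)).symm
  have hsq : ∀ x, sqNorm (vec x) = 8 * ip x x := fun x => by
    rw [← h8]; simp [sqNorm, dotInt, pow_two]
  have hER : SporStruct.LatticeClasses.EvenRootless ip := by
    refine ⟨fun x y => ?_, fun x y w => ?_, fun x hx => ?_, fun x => ?_, fun x hx => ?_⟩
    · have h1 := h8 x y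
      have h2 := h8 y x
      rw [StabMin.dot_comm] at h1
      omega
    · have h1 := h8 (x + y) w
      rw [StabMin.dot_add, h8, h8] at h1
      omega
    · have := sqNorm_ge x.2 (fun h => hx (Subtype.ext h))
      have h1 := hsq x
      simp only [vec] at *
      omega
    · obtain ⟨k, hk⟩ := sqNorm_dvd x.2
      have h1 := hsq x
      exact ⟨k, by simp only [vec] at *; omega⟩
    · have h1 := hsq x
      by_cases h0 : x = 0
      · subst h0
        simp [sqNorm, vec] at h1
        omega
      have := sqNorm_ge x.2 (fun h => h0 (Subtype.ext h))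
      simp only [vec] at *
      omega
  have hrank : ∀ U : Finset leechLattice, (∀ x ∈ U, x ≠ 0) →
      (∀ x ∈ U, ∀ y ∈ U, x ≠ y → ip x y = 0) → U.card ≤ 24 := by
    intro U hU ho
    have h := SporStruct.LatticeClasses.orth_card_le
      (LinearMap.mk₂ ℤ (fun x y : GolayPt → ℤ => dotInt x y)
        (fun a b c => by simp [dotInt, add_mul, Finset.sum_add_distrib])
        (fun r a c => by simp only [dotInt, Pi.smul_apply, smul_eq_mul, Finset.mul_sum, mul_assoc])
        (fun a b c => by simp [dotInt, mul_add, Finset.sum_add_distrib])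
        (fun r a c => by simp only [dotInt, Pi.smul_apply, smul_eq_mul, Finset.mul_sum, mul_left_comm]))
      (U.map ⟨vec, Subtype.val_injective⟩)
      (by
        intro x hx
        obtain ⟨w, hw, rfl⟩ := Finset.mem_map.mp hx
        show dotInt (vec w) (vec w) ≠ 0
        have := hER.pos w (hU w hw)
        rw [h8]
        omega)
      (by
        intro x hx y hy hxy
        obtain ⟨a, ha, rfl⟩ := Finset.mem_map.mp hx
        obtain ⟨b, hb, rfl⟩ := Finset.mem_map.mp hy
        show dotInt (vec a) (vec b) = 0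
        rw [h8, ho a ha b hb (fun h => hxy (by rw [h])), mul_zero])
    rw [Finset.card_map, Module.finrank_pi, Golay.card_golayPt] at h
    exact h
  have hcount : ∀ (n m : ℤ), n = 8 * m →
      {x : leechLattice | ip x x = m}.ncard =
        {x : GolayPt → ℤ | x ∈ leechLattice ∧ sqNorm x = n}.ncard := by
    intro n m hnm
    rw [← Set.ncard_image_of_injective _ (Subtype.val_injective :
      Function.Injective (fun v : leechLattice => (v : GolayPt → ℤ)))]
    congr 1
    ext x
    constructor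
    · rintro ⟨w, hw, rfl⟩
      refine ⟨w.2, ?_⟩
      have := hsq w
      simp only [Set.mem_setOf_eq] at hw
      simp only [vec] at *
      omega
    · rintro ⟨hx, hn⟩
      refine ⟨⟨x, hx⟩, ?_, rfl⟩
      have := hsq ⟨x, hx⟩
      simp only [Set.mem_setOf_eq]
      simp only [vec] at *
      omega
  obtain ⟨v, hv⟩ := hψ.2.1 (QuotientGroup.mk q)
  obtain ⟨y, hy, hcong⟩ := (SporStruct.LatticeClasses.class_count (card_quot hS) hER ψ
    (psi_eq_iff hψ) hrank
    (by rw [hcount 32 4 rfl, ncard_norm32]) (by rw [hcount 48 6 rfl, ncard_norm48])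
    (by rw [hcount 64 8 rfl, ncard_norm64])).2 v
  have hye : ψ y = QuotientGroup.mk q := ((psi_eq_iff hψ v y).mpr hcong).symm.trans hv
  refine ⟨y, ?_, hye⟩
  have hy0 : (y : GolayPt → ℤ) ≠ 0 := by
    intro h0
    refine hq ((QuotientGroup.eq_one_iff q).mp ?_)
    rw [← hye, show y = 0 from Subtype.ext h0, psi_zero hψ]
  have h1 := sqNorm_ge y.2 hy0
  have h2 := hsq y
  obtain ⟨k, hk⟩ := sqNorm_dvd y.2
  simp only [vec] at *
  omega

theorem square_iff (hS : IsExtraspecialCentralizerSetting z Q 12)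
    (hψ : IsLeechModTwoIso Q e ψ) {v : leechLattice} {q : Q} (hv : ψ v = QuotientGroup.mk q) :
    q * q = 1 ↔ (2 : ℤ) ∣ sqNorm (vec v) / 16 := by
  classical
  obtain ⟨hadd, hsurj, hker, hact⟩ := hψ
  obtain ⟨⟨-, -, hcom⟩, hc2⟩ := hS.2.2.1
  have hsq : ∀ q : Q, q * q ∈ Subgroup.center Q := fun q => by
    obtain ⟨v, hv⟩ := hsurj (QuotientGroup.mk q)
    rw [← QuotientGroup.eq_one_iff, QuotientGroup.mk_mul, ← hv, ← hadd, hker]
    exact ⟨v, rfl⟩
  have hc1 : ∀ c ∈ Subgroup.center Q, c * c = 1 := by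
    intro c hc
    have := pow_card_eq_one' (x := (⟨c, hc⟩ : Subgroup.center Q))
    rw [hc2, pow_two] at this
    exact congrArg Subtype.val this
  choose lift hlift using fun v => QuotientGroup.mk_surjective (ψ v)
  have hindep : ∀ (v : leechLattice) (q : Q), ψ v = QuotientGroup.mk q →
      q * q = lift v * lift v := by
    intro v q hq
    obtain ⟨c, hc, rfl⟩ : ∃ c ∈ Subgroup.center Q, q = lift v * c :=
      ⟨(lift v)⁻¹ * q, QuotientGroup.eq.mp ((hlift v).trans hq), by simp⟩
    calc lift v * c * (lift v * c) = lift v * (c * lift v) * c := by group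
      _ = lift v * (lift v * c) * c := by rw [← Subgroup.mem_center_iff.mp hc]
      _ = lift v * lift v * (c * c) := by group
      _ = _ := by rw [hc1 c hc, mul_one]
  let f : leechLattice → ZMod 2 := fun v => S5408.indic (lift v * lift v)
  have hmul : ∀ (v w : leechLattice) (a b : Q), ψ v = QuotientGroup.mk a →
      ψ w = QuotientGroup.mk b → f (v + w) = f v + f w + S5408.indic (S5408.kk a b) := by
    intro v w a b ha hb
    have h : ψ (v + w) = QuotientGroup.mk (a * b) := by rw [hadd, ha, hb, QuotientGroup.mk_mul]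
    simp only [f]
    rw [← hindep _ _ h, ← hindep _ _ ha, ← hindep _ _ hb, S5408.sq_mul_eq hcom,
      S5408.indic_mul hc2 (Subgroup.mul_mem _ (hsq a) (hsq b)) (S5408.kk_mem hcom a b),
      S5408.indic_mul hc2 (hsq a) (hsq b)]
  have hquad : ∀ u v w, f (u + v + w) + f u + f v + f w = f (u + v) + f (u + w) + f (v + w) := by
    intro u v w
    have huv : ψ (u + v) = QuotientGroup.mk (lift u * lift v) := by
      rw [hadd, ← hlift u, ← hlift v, QuotientGroup.mk_mul]
    rw [hmul _ _ _ _ huv (hlift w).symm, S5408.kk_mul hcom,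
      S5408.indic_mul hc2 (S5408.kk_mem hcom _ _) (S5408.kk_mem hcom _ _),
      hmul u w _ _ (hlift u).symm (hlift w).symm, hmul v w _ _ (hlift v).symm (hlift w).symm]
    generalize f (u + v) = p; generalize f u = a; generalize f v = b; generalize f w = c
    generalize S5408.indic (S5408.kk (lift u) (lift w)) = i
    generalize S5408.indic (S5408.kk (lift v) (lift w)) = j
    revert p a b c i j; decide
  have hcoset : ∀ v w, f (v + (w + w)) = f v := by
    intro v w
    have h : ψ (v + (w + w)) = QuotientGroup.mk (lift v) := by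
      rw [hadd, (hker (w + w)).mpr ⟨w, rfl⟩, mul_one, hlift]
    simp only [f]
    rw [← hindep _ _ h]
  have hinv : ∀ (g : Co0) (v : leechLattice), f (g • v) = f v := by
    intro g v
    obtain ⟨h, hh⟩ := QuotientGroup.mk_surjective (e.symm (QuotientGroup.mk g : Spor.Co1))
    have hg := hact h g (by rw [hh, MulEquiv.apply_symm_apply]) v (lift v) (hlift v).symm
    simp only [f]
    rw [← hindep _ _ hg]
    simp only [S5408.indic]
    congr 1
    rw [eq_iff_iff, ← Subtype.val_inj, ← Subtype.val_inj (a := lift v * lift v),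
      Subgroup.coe_mul, Subgroup.coe_mul, Subgroup.coe_one]
    constructor
    · intro h1
      calc ((lift v : Q) : Subgroup.centralizer ({z} : Set G)) * (lift v : Q)
          = h⁻¹ * (h * (lift v : Q) * h⁻¹ * (h * (lift v : Q) * h⁻¹)) * h := by group
        _ = 1 := by rw [h1]; group
    · intro h1
      calc h * (lift v : Q) * h⁻¹ * (h * (lift v : Q) * h⁻¹)
          = h * (((lift v : Q) : Subgroup.centralizer ({z} : Set G)) * (lift v : Q)) * h⁻¹ := by
            group
        _ = 1 := by rw [h1]; group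
  have hne : ∃ v, f v ≠ 0 := by
    by_contra hall
    push Not at hall
    have h1 : ∀ q : Q, q * q = 1 := fun q => by
      obtain ⟨v, hv⟩ := hsurj (QuotientGroup.mk q)
      have := hall v
      simp only [f, S5408.indic] at this
      rw [← hindep v q hv] at this
      by_contra hq
      rw [if_neg hq] at this
      exact one_ne_zero this
    have htop : Subgroup.center Q = ⊤ := by
      rw [eq_top_iff]
      intro a _
      rw [Subgroup.mem_center_iff]
      intro b
      calc b * a = (b * a)⁻¹ := eq_inv_of_mul_eq_one_left (h1 (b * a))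
        _ = a⁻¹ * b⁻¹ := mul_inv_rev b a
        _ = a * b := by
          rw [← eq_inv_of_mul_eq_one_left (h1 a), ← eq_inv_of_mul_eq_one_left (h1 b)]
    rw [htop, Subgroup.card_top, hS.2.2.2.1] at hc2
    norm_num at hc2
  have hform := S5552.result f hcoset hquad hinv hne v
  rw [show ((2 : ℤ) ∣ sqNorm (vec v) / 16) ↔ _ from
    (ZMod.intCast_zmod_eq_zero_iff_dvd _ 2).symm, ← hform]
  simp only [f, S5408.indic, ← hindep v q hv]
  by_cases h : q * q = 1 <;> simp [h]

theorem conj_center (hS : IsExtraspecialCentralizerSetting z Q 12) {q q' : Q}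
    (hq : q ∉ Subgroup.center Q)
    (h : (QuotientGroup.mk q : Q ⧸ Subgroup.center Q) = QuotientGroup.mk q') :
    ∃ p : Q, p * q * p⁻¹ = q' := by
  obtain ⟨⟨-, -, hcom⟩, hc2⟩ := hS.2.2.1
  rcases eq_or_ne q' q with rfl | hne
  · exact ⟨1, by simp⟩
  obtain ⟨p, hp⟩ : ∃ p : Q, ¬ Commute q p := by
    by_contra hall
    push Not at hall
    exact hq (Subgroup.mem_center_iff.mpr fun p => (hall p).symm.eq)
  refine ⟨p, ?_⟩
  have hk := S5408.kk_mem hcom q p⁻¹
  have e1 : p * q * p⁻¹ = q * (q⁻¹ * q') := by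
    have h1 : q⁻¹ * q' ∈ Subgroup.center Q := QuotientGroup.eq.mp h
    have h2 : q⁻¹ * (p * q * p⁻¹) ∈ Subgroup.center Q := by
      rw [← hcom]
      have := Subgroup.commutator_mem_commutator (Subgroup.mem_top q⁻¹) (Subgroup.mem_top p)
      simpa [commutatorElement_def, commutator_def, mul_assoc] using this
    rw [← mul_right_inj (a := q⁻¹), inv_mul_cancel_left]
    refine card_center_two_cases hc2 h2 h1 (fun h3 => hp ?_) (fun h3 => hne ?_)
    · have h4 : q = p * q * p⁻¹ := inv_mul_eq_one.mp h3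
      show q * p = p * q
      calc q * p = p * q * p⁻¹ * p := by rw [← h4]
        _ = p * q := by group
    · exact (inv_mul_eq_one.mp h3).symm
  rw [e1, mul_inv_cancel_left]

theorem exists_action (hψ : IsLeechModTwoIso Q e ψ) (g : Co0) :
    ∃ h : Subgroup.centralizer ({z} : Set G),
      e (QuotientGroup.mk h) = (QuotientGroup.mk g : Spor.Co1) ∧
      ∀ (v : leechLattice) (q : Q), ψ v = QuotientGroup.mk q →
        ψ (g • v) = QuotientGroup.mk
          ⟨h * q * h⁻¹, (inferInstance : Q.Normal).conj_mem _ q.2 h⟩ := by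
  obtain ⟨h, hh⟩ := QuotientGroup.mk_surjective (e.symm (QuotientGroup.mk g : Spor.Co1))
  have he : e (QuotientGroup.mk h) = (QuotientGroup.mk g : Spor.Co1) := by
    rw [hh, MulEquiv.apply_symm_apply]
  exact ⟨h, he, hψ.2.2.2 h g he.symm⟩

/-- An element of `Q` carried to another of the same shell by `C(z)`. -/
theorem conj_of_shell (hS : IsExtraspecialCentralizerSetting z Q 12)
    (hψ : IsLeechModTwoIso Q e ψ) {v v' : leechLattice} {q q' : Q}
    (hv : sqNorm (vec v) = 32 ∨ sqNorm (vec v) = 64) (hvv : sqNorm (vec v') = sqNorm (vec v))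
    (hq : ψ v = QuotientGroup.mk q) (hq' : ψ v' = QuotientGroup.mk q') :
    ∃ h : Subgroup.centralizer ({z} : Set G), h * q * h⁻¹ = q' := by
  obtain ⟨g, hg⟩ : ∃ g : Co0, g • v = v' := by
    rcases hv with h | h
    · obtain ⟨g₁, h₁⟩ := transitive32 (p := none) (q := some 0) (by simp) h
      obtain ⟨g₂, h₂⟩ := transitive32 (p := none) (q := some 0) (by simp) (hvv.trans h)
      exact exists_smul_eq_of (h₁.trans h₂.symm)
    · obtain ⟨g₁, h₁⟩ := transitive64 h
      obtain ⟨g₂, h₂⟩ := transitive64 (hvv.trans h)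
      exact ⟨g₂⁻¹ * g₁, by rw [mul_smul, h₁, ← h₂, inv_smul_smul]⟩
  obtain ⟨h, -, hact⟩ := exists_action hψ g
  set r : Q := ⟨h * q * h⁻¹, (inferInstance : Q.Normal).conj_mem _ q.2 h⟩
  have hr : (QuotientGroup.mk r : Q ⧸ Subgroup.center Q) = QuotientGroup.mk q' := by
    rw [← hq', ← hg, hact v q hq]
  obtain ⟨p, hp⟩ := conj_center hS (q := r) (fun hmem => psi_ne_one hψ
    (v := g • v) (by rw [norm_smul']; omega)
    (by rw [hact v q hq]; exact (QuotientGroup.eq_one_iff r).mpr hmem)) hr
  refine ⟨(p : Subgroup.centralizer ({z} : Set G)) * h, ?_⟩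
  rw [← hp]
  simp [r, mul_assoc]

/-- The class of a minimal vector has at most `196560` conjugates under `C(z)`. -/
theorem index_le (hψ : IsLeechModTwoIso Q e ψ) (hS : IsExtraspecialCentralizerSetting z Q 12)
    {v : leechLattice} {q : Q} (hv : sqNorm (vec v) = 32) (hq : ψ v = QuotientGroup.mk q) :
    (Subgroup.centralizer ({(q : Subgroup.centralizer ({z} : Set G))} :
      Set (Subgroup.centralizer ({z} : Set G)))).index ≤ 196560 := by
  classical
  have hfin : {x : leechLattice | sqNorm (vec x) = 32}.Finite := by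
    refine Set.Finite.of_finite_image (f := fun v : leechLattice => (v : GolayPt → ℤ)) ?_
      Subtype.val_injective.injOn
    refine Set.Finite.subset (Set.finite_of_ncard_ne_zero (s := {x : GolayPt → ℤ |
      x ∈ leechLattice ∧ sqNorm x = 32}) (by rw [ncard_norm32]; norm_num)) ?_
    rintro _ ⟨x, hx, rfl⟩
    exact ⟨x.2, hx⟩
  set M := hfin.toFinset with hM
  have hMc : M.card = 196560 := by
    rw [hM, ← Set.ncard_eq_toFinset_card _ hfin, ← ncard_norm32, ← Set.ncard_image_of_injective _
      (Subtype.val_injective : Function.Injective (fun v : leechLattice => (v : GolayPt → ℤ)))]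
    congr 1
    ext x
    constructor
    · rintro ⟨w, hw, rfl⟩; exact ⟨w.2, hw⟩
    · rintro ⟨hx, hn⟩; exact ⟨⟨x, hx⟩, hn, rfl⟩
  have hM2 : 2 * (M.image ψ).card ≤ M.card := by
    refine Finset.mul_card_image_le_card M 2 fun y hy => ?_
    obtain ⟨w, hw, rfl⟩ := Finset.mem_image.mp hy
    have hw' : sqNorm (vec w) = 32 := by simpa [M] using hw
    have hne : w ≠ -w := fun h => by
      have : vec w = 0 := by
        funext k
        have := congrFun (congrArg vec h) k
        simp [vec] at this ⊢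
        omega
      rw [this] at hw'
      simp [sqNorm] at hw'
    rw [← Finset.card_pair hne]
    refine Finset.card_le_card ?_
    intro x hx
    rcases Finset.mem_insert.mp hx with rfl | hx
    · simp [hw]
    · rw [Finset.mem_singleton] at hx
      subst hx
      refine Finset.mem_filter.mpr ⟨?_, psi_neg hψ w⟩
      simp only [M, Set.Finite.mem_toFinset, Set.mem_setOf_eq]
      show sqNorm (-(vec w)) = 32
      rw [sqNorm_neg]
      exact hw'
  have := Fintype.ofFinite Q
  have := Fintype.ofFinite (Q ⧸ Subgroup.center Q)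
  let B : Finset Cen[z] := (Finset.univ.filter fun x : Q => (QuotientGroup.mk x : Q ⧸ Subgroup.center Q) ∈
    M.image ψ).image Subtype.val
  have horb : (Set.range fun h : Cen[z] => h * (q : Cen[z]) * h⁻¹) ⊆ ↑B := by
    rintro _ ⟨h, rfl⟩
    obtain ⟨g, hg⟩ := QuotientGroup.mk_surjective (e (QuotientGroup.mk h))
    refine Finset.mem_image.mpr ⟨⟨h * q * h⁻¹, (inferInstance : Q.Normal).conj_mem _ q.2 h⟩,
      Finset.mem_filter.mpr ⟨Finset.mem_univ _, Finset.mem_image.mpr
        ⟨g • v, ?_, hψ.2.2.2 h g hg v q hq⟩⟩, rfl⟩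
    simp only [M, Set.Finite.mem_toFinset, Set.mem_setOf_eq]
    rw [norm_smul', hv]
  have hB : B.card ≤ 196560 := by
    refine le_trans Finset.card_image_le ?_
    refine le_trans ?_ (hMc ▸ hM2)
    rw [Finset.card_eq_sum_card_fiberwise (f := fun x : Q => (QuotientGroup.mk x : Q ⧸ Subgroup.center Q))
      (t := M.image ψ) (s := Finset.univ.filter fun x : Q =>
        (QuotientGroup.mk x : Q ⧸ Subgroup.center Q) ∈ M.image ψ)
      (fun x hx => (Finset.mem_filter.mp hx).2), mul_comm 2]
    refine (Finset.sum_le_card_nsmul _ _ 2 fun k _ => ?_).trans (le_of_eq (by simp; congr!))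
    obtain ⟨k, rfl⟩ := QuotientGroup.mk_surjective k
    refine le_trans (Finset.card_le_card (t := {k, k * zQ hS}) ?_) Finset.card_le_two
    intro x hx
    have hx' : (QuotientGroup.mk x : Q ⧸ Subgroup.center Q) = QuotientGroup.mk k :=
      (Finset.mem_filter.mp hx).2
    rcases center_cases hS (QuotientGroup.eq.mp hx'.symm) with h | h
    · simp [(inv_mul_eq_one.mp h).symm]
    · simp [← h]
  have hidx : (Subgroup.centralizer ({(q : Cen[z])} : Set Cen[z])).index =
      (Set.range fun h : Cen[z] => h * (q : Cen[z]) * h⁻¹).ncard := by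
    have h1 := MulAction.index_stabilizer (ConjAct Cen[z]) (q : Cen[z])
    rw [ConjAct.stabilizer_eq_centralizer] at h1
    have h2 : MulAction.orbit (ConjAct Cen[z]) (q : Cen[z]) = Set.range fun h : Cen[z] => h * (q : Cen[z]) * h⁻¹ := by
      ext x
      constructor
      · rintro ⟨h, rfl⟩; exact ⟨ConjAct.ofConjAct h, rfl⟩
      · rintro ⟨h, rfl⟩; exact ⟨ConjAct.toConjAct h, rfl⟩
    rw [← h2, ← h1]
    rfl
  rw [hidx]
  have := Set.ncard_le_ncard horb (Finset.finite_toSet B)
  rw [Set.ncard_coe_finset] at this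
  exact this.trans hB

/-- An element in the class of a minimal vector is not conjugate to `z`. -/
theorem not_conj_of_min (hS : IsExtraspecialCentralizerSetting z Q 12)
    (hψ : IsLeechModTwoIso Q e ψ) {v : leechLattice} {q : Q} (hv : sqNorm (vec v) = 32)
    (hq : ψ v = QuotientGroup.mk q) : ¬ IsConj z ((q : Subgroup.centralizer ({z} : Set G)) : G) := by
  classical
  intro hconj
  obtain ⟨a, ha⟩ := isConj_iff.mp hconj
  set t : G := ((q : Cen[z]) : G) with ht
  obtain ⟨⟨-, -, hcom⟩, hc2⟩ := hS.2.2.1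
  have hz2 : z * z = 1 := by
    have := pow_orderOf_eq_one z
    rw [hS.1, pow_two] at this
    exact this
  have hqc : q ∉ Subgroup.center Q := fun h => psi_ne_one hψ (Or.inl hv)
    (by rw [hq]; exact (QuotientGroup.eq_one_iff q).mpr h)
  have hmemC : ∀ {g : G}, g ∈ Cen[z] ↔ g * z = z * g := Subgroup.mem_centralizer_singleton_iff
  have htz : t ≠ z := fun h => hqc ((Subtype.ext (Subtype.ext h) : q = zQ hS) ▸ zQ_center hS)
  -- `R` is the conjugate of `Q`
  set Qg : Subgroup G := Q.map Cen[z].subtype with hQg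
  have hQgC : Qg ≤ Cen[z] := Subgroup.map_subtype_le Q
  have hcomm : ∀ x ∈ Qg, ∀ y ∈ Qg, y⁻¹ * x⁻¹ * y * x = 1 ∨ y⁻¹ * x⁻¹ * y * x = z := by
    rintro _ ⟨x, hx, rfl⟩ _ ⟨y, hy, rfl⟩
    rcases center_cases hS (S5408.kk_mem hcom (⟨x, hx⟩ : Q) ⟨y, hy⟩) with h | h
    · exact Or.inl (congrArg (fun q : Q => ((q : Cen[z]) : G)) h)
    · exact Or.inr (congrArg (fun q : Q => ((q : Cen[z]) : G)) h)
  set R : Subgroup G := Qg.map (MulAut.conj a).toMonoidHom ⊓ Cen[z] with hR
  have hRt : ∀ x ∈ R, x * t = t * x := by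
    rintro x ⟨⟨y, hy, rfl⟩, -⟩
    have hyz := hmemC.mp (hQgC hy)
    simp only [MulEquiv.coe_toMonoidHom, MulAut.conj_apply]
    calc a * y * a⁻¹ * t = a * (y * z) * a⁻¹ := by rw [← ha]; group
      _ = a * (z * y) * a⁻¹ := by rw [hyz]
      _ = t * (a * y * a⁻¹) := by rw [← ha]; group
  have hstab : ∀ g : Co0, (∃ h : Cen[z], e (QuotientGroup.mk h) = (QuotientGroup.mk g : Spor.Co1) ∧
      (h : G) * t = t * (h : G)) → g ∈ StabMin.stabPm v := by
    rintro g ⟨h, he, hht⟩
    have hh := hψ.2.2.2 h g he.symm v q hq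
    have hfix : (⟨h * q * h⁻¹, (inferInstance : Q.Normal).conj_mem _ q.2 h⟩ : Q) = q := by
      apply Subtype.ext; apply Subtype.ext
      show (h : G) * t * (h : G)⁻¹ = t
      rw [hht]; group
    rw [hfix, ← hq, psi_eq_iff hψ] at hh
    obtain ⟨w, hw⟩ := hh
    show g • v = v ∨ g • v = -v
    by_contra hcon
    push Not at hcon
    have b1 := sqNorm_ge w.2 (fun e0 => hcon.1 (by
      rw [show w = 0 from Subtype.ext e0, add_zero] at hw
      exact sub_eq_zero.mp hw))
    have b2 := sqNorm_ge (w + v).2 (fun e0 => hcon.2 (by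
      rw [eq_neg_of_add_eq_zero_left (show w + v = 0 from Subtype.ext e0)] at hw
      rw [sub_eq_iff_eq_add.mp hw]; abel))
    have e1 : sqNorm (vec (g • v - v)) = 4 * sqNorm (vec w) := by
      rw [hw]
      simp only [sqNorm, vec, AddSubgroup.coe_add, Pi.add_apply, Finset.mul_sum]
      exact Finset.sum_congr rfl fun i _ => by ring
    have e2 : sqNorm (vec (g • v + v)) = 4 * sqNorm (vec (w + v)) := by
      rw [show g • v + v = (w + v) + (w + v) by rw [sub_eq_iff_eq_add.mp hw]; abel]
      simp only [sqNorm, vec, AddSubgroup.coe_add, Pi.add_apply, Finset.mul_sum]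
      exact Finset.sum_congr rfl fun i _ => by ring
    have e3 := sqNorm_add (vec (g • v)) (vec v)
    have e4 := sqNorm_sub (vec (g • v)) (vec v)
    have e5 := norm_smul' g v
    simp only [vec, AddSubgroup.coe_add, AddSubgroup.coe_sub] at *
    omega
  let π : Cen[z] →* Spor.Co1 := e.toMonoidHom.comp (QuotientGroup.mk' Q)
  let N0 : Subgroup Co0 := ((R.subgroupOf Cen[z]).map π).comap (QuotientGroup.mk' (Subgroup.center Co0))
  have hQp : IsPGroup 2 Q := hS.2.2.1.1.1
  have hRp : IsPGroup 2 R := ((hQp.map Cen[z].subtype).map _).to_le inf_le_left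
  have hN0p : IsPGroup 2 N0 := by
    refine IsPGroup.comap_of_ker_isPGroup ?_ _ ?_
    · exact (hRp.comap_subtype).map _
    · rw [QuotientGroup.ker_mk']
      exact IsPGroup.of_card (n := 1) (by rw [Leech.card_center]; rfl)
  have hN0le : N0 ≤ StabMin.stabPm v := by
    rintro g ⟨h, hh, hhe⟩
    exact hstab g ⟨h, hhe, hRt _ hh⟩
  have hN0norm : ∀ x ∈ StabMin.stabPm v, ∀ n ∈ N0, x * n * x⁻¹ ∈ N0 := by
    intro x hx n hn
    obtain ⟨r, hr, hre⟩ := hn
    obtain ⟨h, he, hact⟩ := exists_action hψ x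
    set q' : Q := ⟨h * q * h⁻¹, (inferInstance : Q.Normal).conj_mem _ q.2 h⟩
    have hcls : (QuotientGroup.mk q' : Q ⧸ Subgroup.center Q) = QuotientGroup.mk q := by
      rw [← hact v q hq, ← hq]
      rcases hx with hx | hx <;> rw [hx]
      rw [psi_neg hψ]
    obtain ⟨p, hp⟩ := conj_center hS (q := q') (fun hmem => hqc (by
      have := (QuotientGroup.eq_one_iff q').mpr hmem
      rw [hcls] at this
      exact (QuotientGroup.eq_one_iff q).mp this)) hcls
    set k : Cen[z] := (p : Cen[z]) * h with hk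
    have hkt : (k : G) * t = t * (k : G) := by
      have h1 : ((p : Cen[z]) : G) * ((h : G) * t * (h : G)⁻¹) * ((p : Cen[z]) : G)⁻¹ = t :=
        congrArg (fun q : Q => ((q : Cen[z]) : G)) hp
      show ((p : Cen[z]) : G) * (h : G) * t = t * (((p : Cen[z]) : G) * (h : G))
      calc ((p : Cen[z]) : G) * (h : G) * t =
            ((p : Cen[z]) : G) * ((h : G) * t * (h : G)⁻¹) * ((p : Cen[z]) : G)⁻¹ * (((p : Cen[z]) : G) * (h : G)) := by group
        _ = _ := by rw [h1]
    refine ⟨k * r * k⁻¹, ?_, ?_⟩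
    · show ((k * r * k⁻¹ : Cen[z]) : G) ∈ R
      refine ⟨?_, (k * r * k⁻¹).2⟩
      obtain ⟨⟨y, hy, hyr⟩, -⟩ := hr
      simp only [MulEquiv.coe_toMonoidHom, MulAut.conj_apply] at hyr
      -- `k` normalises the conjugate of `Q`
      have hk' : a⁻¹ * (k : G) * a ∈ Cen[z] := hmemC.mpr (by
        calc a⁻¹ * (k : G) * a * z = a⁻¹ * ((k : G) * (a * z * a⁻¹)) * a := by group
          _ = a⁻¹ * (t * (k : G)) * a := by rw [ha, hkt]
          _ = _ := by rw [← ha]; group)
      obtain ⟨y0, hy0, rfl⟩ := hy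
      refine ⟨_, ⟨(⟨_, hk'⟩ : Cen[z]) * y0 * (⟨_, hk'⟩ : Cen[z])⁻¹,
        (inferInstance : Q.Normal).conj_mem _ hy0 _, rfl⟩, ?_⟩
      simp only [MulEquiv.coe_toMonoidHom, MulAut.conj_apply]
      show a * (a⁻¹ * (k : G) * a * (y0 : G) * (a⁻¹ * (k : G) * a)⁻¹) * a⁻¹ =
        (k : G) * (r : G) * (k : G)⁻¹
      rw [show (r : G) = _ from hyr.symm]
      show _ = (k : G) * (a * (y0 : G) * a⁻¹) * (k : G)⁻¹
      group
    · have hπk : π k = (QuotientGroup.mk x : Spor.Co1) := by
        show e (QuotientGroup.mk k) = _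
        rw [← he]
        congr 1
        rw [hk, QuotientGroup.mk_mul, (QuotientGroup.eq_one_iff _).mpr p.2, one_mul]
      rw [map_mul, map_mul, map_inv, hπk, hre]
      simp
  have hcentral := StabMin.two_subgroup_central hv N0 hN0le hN0norm hN0p
  have hRQ : R ≤ Qg := by
    intro x hx
    obtain ⟨g, hg⟩ := QuotientGroup.mk_surjective (π ⟨x, hx.2⟩)
    have hgN : g ∈ N0 := ⟨⟨x, hx.2⟩, hx, hg.symm⟩
    have h1 : π ⟨x, hx.2⟩ = 1 := by rw [← hg]; exact (QuotientGroup.eq_one_iff g).mpr (hcentral hgN)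
    have h2 : (QuotientGroup.mk (⟨x, hx.2⟩ : Cen[z]) : Cen[z] ⧸ Q) = 1 := e.injective (h1.trans (map_one e).symm)
    exact ⟨_, (QuotientGroup.eq_one_iff _).mp h2, rfl⟩
  -- `R` is abelian
  have hRab : ∀ x ∈ R, ∀ y ∈ R, x * y = y * x := by
    intro x hx y hy
    have h1 := hcomm x (hRQ hx) y (hRQ hy)
    obtain ⟨x', hx', hxe⟩ := hx.1
    obtain ⟨y', hy', hye⟩ := hy.1
    have h2 := hcomm x' hx' y' hy'
    simp only [MulEquiv.coe_toMonoidHom, MulAut.conj_apply] at hxe hye
    have e0 : y⁻¹ * x⁻¹ * y * x = a * (y'⁻¹ * x'⁻¹ * y' * x') * a⁻¹ := by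
      rw [← hxe, ← hye]; group
    rcases h1 with h1 | h1
    · calc x * y = x * y * (y⁻¹ * x⁻¹ * y * x) := by rw [h1, mul_one]
        _ = y * x := by group
    exfalso
    rw [h1] at e0
    rcases h2 with h2 | h2
    · rw [h2, mul_one, mul_inv_cancel] at e0
      have h3 := hS.1
      rw [e0, orderOf_one] at h3
      norm_num at h3
    · rw [h2] at e0
      exact htz (ha.symm.trans e0.symm)
  have hRcard : Nat.card R ≤ 2 ^ 13 := by
    let A : Subgroup Q := (R.subgroupOf Cen[z]).subgroupOf Q
    have hA : Nat.card A = Nat.card R := by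
      refine Nat.card_congr
        { toFun := fun x => ⟨((x : Q) : Cen[z]), x.2⟩
          invFun := fun x => ⟨⟨⟨x, x.2.2⟩, ?_⟩, x.2⟩
          left_inv := fun x => rfl
          right_inv := fun x => rfl }
      obtain ⟨w, hw, hwe⟩ := hRQ x.2
      rwa [← (Subtype.ext hwe : w = (⟨(x : G), x.2.2⟩ : Cen[z]))]
    have h := card_sq_le hcom hc2 A (fun x hx y hy =>
      Subtype.ext (Subtype.ext (hRab _ hx _ hy)))
    rw [hA, hS.2.2.2.1] at h
    by_contra hlt
    have : (2 ^ 13 + 1) * (2 ^ 13 + 1) ≤ Nat.card R * Nat.card R :=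
      Nat.mul_le_mul (by omega) (by omega)
    norm_num at h this
    omega
  -- the pulled back element
  have htmem : t * z = z * t := hmemC.mp (q : Cen[z]).2
  set u : G := a⁻¹ * z * a with hu
  have huC : u ∈ Cen[z] := hmemC.mpr (by
    calc a⁻¹ * z * a * z = a⁻¹ * (z * (a * z * a⁻¹)) * a := by group
      _ = a⁻¹ * ((a * z * a⁻¹) * z) * a := by rw [ha, htmem]
      _ = z * (a⁻¹ * z * a) := by group)
  set uC : Cen[z] := ⟨u, huC⟩
  set CQ : Subgroup Cen[z] := Subgroup.centralizer ({uC} : Set Cen[z]) with hCQ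
  have hA2 : Nat.card (CQ ⊓ Q : Subgroup Cen[z]) ≤ 2 ^ 13 := by
    refine le_trans ?_ hRcard
    refine Nat.card_le_card_of_injective
      (fun x => ⟨a * ((x : Cen[z]) : G) * a⁻¹, ⟨⟨((x : Cen[z]) : G), ⟨(x : Cen[z]), x.2.2, rfl⟩, rfl⟩, hmemC.mpr ?_⟩⟩) ?_
    · have h1 : ((x : Cen[z]) : G) * u = u * ((x : Cen[z]) : G) :=
        congrArg Subtype.val (Subgroup.mem_centralizer_singleton_iff.mp x.2.1)
      calc a * ((x : Cen[z]) : G) * a⁻¹ * z = a * (((x : Cen[z]) : G) * u) * a⁻¹ := by rw [hu]; group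
        _ = a * (u * ((x : Cen[z]) : G)) * a⁻¹ := by rw [h1]
        _ = _ := by rw [hu]; group
    · intro x y hxy
      have h1 : a * ((x : Cen[z]) : G) * a⁻¹ = a * ((y : Cen[z]) : G) * a⁻¹ := congrArg Subtype.val hxy
      exact Subtype.ext (Subtype.ext (mul_left_cancel (mul_right_cancel h1)))
  have huQ : uC ∉ Q := by
    intro hmem
    let q0 : Q := ⟨uC, hmem⟩
    have horb : ((Subgroup.centralizer ({q0} : Set Q))).index ≤ 2 := by
      have h1 := MulAction.index_stabilizer (ConjAct Q) q0
      rw [ConjAct.stabilizer_eq_centralizer] at h1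
      change (Subgroup.centralizer ({q0} : Set Q)).index = _ at h1
      rw [h1]
      refine le_trans (Set.ncard_le_ncard (t := {q0, q0 * zQ hS}) ?_ (Set.toFinite _)) ?_
      · rintro _ ⟨p, rfl⟩
        have h2 : q0⁻¹ * (p • q0) ∈ Subgroup.center Q := by
          rw [← hcom]
          have := Subgroup.commutator_mem_commutator (Subgroup.mem_top q0⁻¹)
            (Subgroup.mem_top (ConjAct.ofConjAct p))
          simpa [commutatorElement_def, commutator_def, mul_assoc, ConjAct.smul_def] using this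
        rcases center_cases hS h2 with h | h
        · left; exact (inv_mul_eq_one.mp h).symm
        · right; rw [Set.mem_singleton_iff, ← h, mul_inv_cancel_left]
      · exact le_trans (Set.ncard_insert_le _ _) (by simp)
    have hcard := Subgroup.card_mul_index (Subgroup.centralizer ({q0} : Set Q))
    rw [hS.2.2.2.1] at hcard
    have hle : Nat.card (Subgroup.centralizer ({q0} : Set Q)) ≤ 2 ^ 13 := by
      refine le_trans (Nat.card_le_card_of_injective (fun x => ⟨((x : Q) : Cen[z]),
        Subgroup.mem_centralizer_singleton_iff.mpr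
          (congrArg Subtype.val (Subgroup.mem_centralizer_singleton_iff.mp x.2)), (x : Q).2⟩) ?_) hA2
      intro x y hxy
      exact Subtype.ext (Subtype.ext (congrArg (fun w : (CQ ⊓ Q : Subgroup Cen[z]) => (w : Cen[z])) hxy))
    have := Nat.mul_le_mul hle horb
    rw [hcard] at this
    norm_num at this
  -- counting
  set DC : Subgroup Cen[z] := Subgroup.centralizer ({(q : Cen[z])} : Set Cen[z]) with hDC
  have hD : Nat.card DC ≤ Nat.card CQ := by
    refine Nat.card_le_card_of_injective (fun x => ⟨⟨a⁻¹ * ((x : Cen[z]) : G) * a, hmemC.mpr ?_⟩,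
      Subgroup.mem_centralizer_singleton_iff.mpr (Subtype.ext ?_)⟩) ?_
    · have h1 : ((x : Cen[z]) : G) * t = t * ((x : Cen[z]) : G) :=
        congrArg Subtype.val (Subgroup.mem_centralizer_singleton_iff.mp x.2)
      calc a⁻¹ * ((x : Cen[z]) : G) * a * z = a⁻¹ * (((x : Cen[z]) : G) * (a * z * a⁻¹)) * a := by group
        _ = a⁻¹ * (t * ((x : Cen[z]) : G)) * a := by rw [ha, h1]
        _ = _ := by rw [← ha]; group
    · show a⁻¹ * ((x : Cen[z]) : G) * a * (a⁻¹ * z * a) = a⁻¹ * z * a * (a⁻¹ * ((x : Cen[z]) : G) * a)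
      calc a⁻¹ * ((x : Cen[z]) : G) * a * (a⁻¹ * z * a) = a⁻¹ * (((x : Cen[z]) : G) * z) * a := by group
        _ = a⁻¹ * (z * ((x : Cen[z]) : G)) * a := by rw [hmemC.mp (x : Cen[z]).2]
        _ = _ := by group
    · intro x y hxy
      have h1 : a⁻¹ * ((x : Cen[z]) : G) * a = a⁻¹ * ((y : Cen[z]) : G) * a :=
        congrArg (fun w : CQ => ((w : Cen[z]) : G)) hxy
      exact Subtype.ext (Subtype.ext (mul_left_cancel (mul_right_cancel h1)))
  have hC1 : Nat.card Cen[z] = Nat.card Spor.Co1 * 2 ^ 25 := by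
    rw [Subgroup.card_eq_card_quotient_mul_card_subgroup Q, Nat.card_congr e.toEquiv, hS.2.2.2.1]
  obtain ⟨g, hg⟩ := QuotientGroup.mk_surjective (π uC)
  set CX : Subgroup Spor.Co1 := Subgroup.centralizer ({π uC} : Set Spor.Co1) with hCX
  have hker : Nat.card CQ ≤ Nat.card CX * 2 ^ 13 := by
    let f : CQ →* CX := MonoidHom.codRestrict (π.comp CQ.subtype) CX fun x => by
      rw [hCX, Subgroup.mem_centralizer_singleton_iff]
      show π x * π uC = π uC * π x
      rw [← map_mul, Subgroup.mem_centralizer_singleton_iff.mp x.2, map_mul]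
    rw [Subgroup.card_eq_card_quotient_mul_card_subgroup f.ker]
    refine Nat.mul_le_mul (Nat.card_le_card_of_injective _ (QuotientGroup.kerLift_injective f)) ?_
    refine le_trans (Nat.card_le_card_of_injective (fun x : f.ker => ⟨((x : CQ) : Cen[z]),
      (x : CQ).2, by
        have h1 : π ((x : CQ) : Cen[z]) = 1 := congrArg Subtype.val (MonoidHom.mem_ker.mp x.2)
        exact (QuotientGroup.eq_one_iff _).mp (e.injective (h1.trans (map_one e).symm))⟩) ?_) hA2
    intro x y hxy
    exact Subtype.ext (Subtype.ext (congrArg (fun w : (CQ ⊓ Q : Subgroup Cen[z]) => (w : Cen[z])) hxy))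
  have hidx := index_le hψ hS hv hq
  have h1 := Subgroup.card_mul_index DC
  have h2 := Subgroup.card_mul_index CX
  have hposC : 0 < Nat.card Spor.Co1 := by
    have : Finite Spor.Co1 := Finite.of_surjective π
      (e.surjective.comp (QuotientGroup.mk'_surjective Q))
    exact Nat.card_pos
  have hfew : CX.index ≤ 47 := by
    have hchain : Nat.card Cen[z] ≤ Nat.card CX * 2 ^ 13 * 196560 := by
      calc Nat.card Cen[z] = Nat.card DC * DC.index := h1.symm
        _ ≤ Nat.card CX * 2 ^ 13 * 196560 := Nat.mul_le_mul (hD.trans hker) hidx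
    have hCXpos : 0 < Nat.card CX := by
      rcases Nat.eq_zero_or_pos (Nat.card CX) with h | h
      · rw [h, zero_mul] at h2; omega
      · exact h
    rw [hC1, ← h2] at hchain
    by_contra hlt
    have h48 : Nat.card CX * 48 * 2 ^ 25 ≤ Nat.card CX * CX.index * 2 ^ 25 :=
      Nat.mul_le_mul_right _ (Nat.mul_le_mul_left _ (by omega))
    have : Nat.card CX * (48 * 2 ^ 25) ≤ Nat.card CX * (2 ^ 13 * 196560) := by
      calc Nat.card CX * (48 * 2 ^ 25) = Nat.card CX * 48 * 2 ^ 25 := by ring
        _ ≤ Nat.card CX * CX.index * 2 ^ 25 := h48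
        _ ≤ Nat.card CX * 2 ^ 13 * 196560 := hchain
        _ = _ := by ring
    have := Nat.le_of_mul_le_mul_left this hCXpos
    norm_num at this
  have hconjset : Axes.conjSet g = MulAction.orbit (ConjAct Spor.Co1) (π uC) := by
    rw [Axes.conjSet, hg]
    ext x
    constructor
    · rintro ⟨h, rfl⟩; exact ⟨ConjAct.toConjAct h, rfl⟩
    · rintro ⟨h, rfl⟩; exact ⟨ConjAct.ofConjAct h, rfl⟩
  have hcen : g ∈ Subgroup.center Co0 := Axes.mem_center_of_few (by
    rw [hconjset]
    have h3 := MulAction.index_stabilizer (ConjAct Spor.Co1) (π uC)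
    rw [ConjAct.stabilizer_eq_centralizer] at h3
    rw [← h3]
    exact hfew)
  refine huQ ((QuotientGroup.eq_one_iff _).mp (e.injective ?_))
  show π uC = e 1
  rw [← hg, map_one]
  exact (QuotientGroup.eq_one_iff g).mpr hcen

/-- Classification of the conjugates of `z` in `Q`. -/
theorem conj_iff (hS : IsExtraspecialCentralizerSetting z Q 12)
    (hψ : IsLeechModTwoIso Q e ψ) (x : Q) :
    (IsConj z ((x : Subgroup.centralizer ({z} : Set G)) : G) ∧
      ((x : Subgroup.centralizer ({z} : Set G)) : G) ≠ z) ↔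
      ∃ v : leechLattice, sqNorm (vec v) = 64 ∧ ψ v = QuotientGroup.mk x := by
  have key : ∀ x : Q, IsConj z ((x : Cen[z]) : G) → ((x : Cen[z]) : G) ≠ z →
      ∃ v : leechLattice, sqNorm (vec v) = 64 ∧ ψ v = QuotientGroup.mk x := by
    intro x hconj hne
    obtain ⟨a, ha⟩ := isConj_iff.mp hconj
    have hsq : x * x = 1 := by
      apply Subtype.ext; apply Subtype.ext
      show ((x : Cen[z]) : G) * ((x : Cen[z]) : G) = 1
      have h := pow_orderOf_eq_one z
      rw [hS.1, pow_two] at h
      rw [← ha]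
      calc a * z * a⁻¹ * (a * z * a⁻¹) = a * (z * z) * a⁻¹ := by group
        _ = 1 := by rw [h]; group
    have hxc : x ∉ Subgroup.center Q := by
      intro h
      rcases center_cases hS h with h | h
      · have h1 : a * z * a⁻¹ = 1 := by rw [ha, h]; rfl
        have hz : z = 1 := by
          calc z = a⁻¹ * (a * z * a⁻¹) * a := by group
            _ = 1 := by rw [h1]; group
        have h2 := hS.1
        rw [hz, orderOf_one] at h2
        norm_num at h2
      · exact hne (congrArg (fun q : Q => ((q : Cen[z]) : G)) h)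
    obtain ⟨v, hv, hvx⟩ := exists_short hS hψ hxc
    have h2 := (square_iff hS hψ hvx).mp hsq
    rcases hv with h | h | h
    · exact absurd hconj (not_conj_of_min hS hψ h hvx)
    · rw [h] at h2; norm_num at h2
    · exact ⟨v, h, hvx⟩
  constructor
  · rintro ⟨h1, h2⟩
    exact key x h1 h2
  · rintro ⟨v, hv, hvx⟩
    obtain ⟨g, ⟨hq, hmem⟩, hgne⟩ := hS.2.2.2.2
    let w : Q := ⟨⟨g * z * g⁻¹, hq⟩, hmem⟩
    have hw : IsConj z ((w : Cen[z]) : G) := isConj_iff.mpr ⟨g, rfl⟩
    obtain ⟨v', hv', hv'w⟩ := key w hw hgne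
    obtain ⟨h, hh⟩ := conj_of_shell hS hψ (Or.inr hv') (hv.trans hv'.symm) hv'w hvx
    refine ⟨hw.trans (isConj_iff.mpr ⟨(h : G), congrArg Subtype.val hh⟩), fun hxz => ?_⟩
    exact psi_ne_one hψ (Or.inr (Or.inr hv)) (by
      rw [hvx, show x = zQ hS from Subtype.ext (Subtype.ext hxz)]
      exact (QuotientGroup.eq_one_iff _).mpr (zQ_center hS))

/-- An involution of `Q` outside the centre and not conjugate to `z` has a minimal class. -/
theorem min_of_not_conj (hS : IsExtraspecialCentralizerSetting z Q 12)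
    (hψ : IsLeechModTwoIso Q e ψ) (x : Q) (hx : orderOf ((x : Subgroup.centralizer ({z} : Set G)) : G) = 2)
    (hn : ¬ IsConj z ((x : Subgroup.centralizer ({z} : Set G)) : G)) :
    ∃ v : leechLattice, sqNorm (vec v) = 32 ∧ ψ v = QuotientGroup.mk x := by
  have hsq : x * x = 1 := by
    apply Subtype.ext; apply Subtype.ext
    show ((x : Cen[z]) : G) * ((x : Cen[z]) : G) = 1
    have h := pow_orderOf_eq_one ((x : Cen[z]) : G)
    rwa [hx, pow_two] at h
  have hxc : x ∉ Subgroup.center Q := by
    intro h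
    rcases center_cases hS h with h | h
    · rw [h] at hx
      simp at hx
    · exact hn (by rw [h]; exact IsConj.refl z)
  obtain ⟨v, hv, hvx⟩ := exists_short hS hψ hxc
  have h2 := (square_iff hS hψ hvx).mp hsq
  rcases hv with h | h | h
  · exact ⟨v, h, hvx⟩
  · rw [h] at h2; norm_num at h2
  · exact absurd ((conj_iff hS hψ x).mpr ⟨v, h, hvx⟩).1 hn

end Cfsg.Agent.Lib.LeechMod2.MonsterCore
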