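import Cfsg.Agent.Lib.LeechMod2.Frame
import Cfsg.Agent.Lib.LeechMod2.MonsterCore

/-!
In a group of Monster type: the intersection of `Q` with the conjugate `Q'` attached to another
conjugate of `z` in `Q`, and the image of `Q' ∩ C(z)` modulo `Q`.
-/

set_option autoImplicit false

namespace Cfsg.Agent.Lib.LeechMod2.MonsterCross

open Cfsg Cfsg.Agent.Lib.Leech

universe u

local notation "Cen[" z "]" => Subgroup.centralizer ({z} : Set _)

variable {G : Type u} [Group G] [Finite G] {z : G}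
  {Q : Subgroup (Subgroup.centralizer ({z} : Set G))} [Q.Normal]

/-- An identification sending the standard axis to a given class of norm `64`. -/
theorem exists_standard {e : Cen[z] ⧸ Q ≃* Spor.Co1} {ψ : leechLattice → Q ⧸ Subgroup.center Q}
    (hψ : IsLeechModTwoIso Q e ψ) {v : leechLattice} (hv : sqNorm (vec v) = 64) :
    ∃ (e' : Cen[z] ⧸ Q ≃* Spor.Co1) (ψ' : leechLattice → Q ⧸ Subgroup.center Q),
      IsLeechModTwoIso Q e' ψ' ∧ ψ' (eightE none) = ψ v := by
  obtain ⟨g0, hg0⟩ := transitive64 hv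
  obtain ⟨γ, hγ⟩ : ∃ γ : Co0, γ = g0⁻¹ := ⟨_, rfl⟩
  refine ⟨e.trans (MulAut.conj (Frame.bar γ)⁻¹), fun w => ψ (γ • w),
    ⟨fun a b => by simp only [smul_add', hψ.1], ?_, ?_, ?_⟩, ?_⟩
  · intro y
    obtain ⟨w, hw⟩ := hψ.2.1 y
    exact ⟨γ⁻¹ • w, by simp [hw]⟩
  · intro w
    rw [hψ.2.2.1]
    constructor
    · rintro ⟨x, hx⟩
      refine ⟨γ⁻¹ • x, ?_⟩
      rw [← smul_add', ← hx, inv_smul_smul]
    · rintro ⟨x, rfl⟩
      exact ⟨γ • x, smul_add' γ x x⟩
  · intro h g hg w q hq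
    have h1 : (QuotientGroup.mk (γ * g * γ⁻¹) : Spor.Co1) = e (QuotientGroup.mk h) := by
      show Frame.bar (γ * g * γ⁻¹) = _
      have h2 : Frame.bar g = (Frame.bar γ)⁻¹ * e (QuotientGroup.mk h) * ((Frame.bar γ)⁻¹)⁻¹ := hg
      rw [map_mul, map_mul, map_inv, h2]
      group
    have h3 := hψ.2.2.2 h _ h1 (γ • w) q hq
    rw [← h3]
    show ψ (γ • g • w) = _
    rw [mul_smul, mul_smul, inv_smul_smul]
  · show ψ (γ • eightE none) = ψ v
    rw [hγ, ← hg0, inv_smul_smul]

variable {e : Cen[z] ⧸ Q ≃* Spor.Co1} {ψ : leechLattice → Q ⧸ Subgroup.center Q}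

theorem notMem_center (hψ : IsLeechModTwoIso Q e ψ) {q : Q}
    (hq : ψ (eightE none) = QuotientGroup.mk q) : q ∉ Subgroup.center Q := fun h =>
  MonsterCore.psi_ne_one hψ (Or.inr (Or.inr (sqNorm_eightE none)))
    (by rw [hq]; exact (QuotientGroup.eq_one_iff q).mpr h)

/-- The monomial group lifts to the centraliser of the element. -/
theorem lift_cross (hS : IsExtraspecialCentralizerSetting z Q 12) (hψ : IsLeechModTwoIso Q e ψ)
    {q : Q} (hq : ψ (eightE none) = QuotientGroup.mk q) {g : Co0} (hg : g ∈ crossGroup) :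
    ∃ k : Cen[z], e (QuotientGroup.mk k) = Frame.bar g ∧
      (k : G) * ((q : Cen[z]) : G) = ((q : Cen[z]) : G) * (k : G) := by
  obtain ⟨h, he, hact⟩ := MonsterCore.exists_action hψ g
  set q' : Q := ⟨h * q * h⁻¹, (inferInstance : Q.Normal).conj_mem _ q.2 h⟩
  have hcls : (QuotientGroup.mk q' : Q ⧸ Subgroup.center Q) = QuotientGroup.mk q := by
    rw [← hact _ q hq, ← hq, MonsterCore.psi_eq_iff hψ]
    obtain ⟨j, hj⟩ := hg none
    obtain ⟨w, hw⟩ : ∃ w : leechLattice, eightE j - eightE none = w + w :=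
      ⟨⟨_, four_pm_mem (i := j) (j := none) 1 (-1) (by norm_num)⟩, by
        apply Subtype.ext
        funext l
        simp [eightE, Pi.single_apply]
        split_ifs <;> norm_num⟩
    rcases hj with hj | hj
    · exact ⟨w, by rw [hj, hw]⟩
    · refine ⟨w - eightE j, ?_⟩
      rw [hj, show -eightE j - eightE none = (eightE j - eightE none) - (eightE j + eightE j) by abel,
        hw]
      abel
  obtain ⟨p, hp⟩ := MonsterCore.conj_center hS (q := q') (fun hmem => notMem_center hψ hq (by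
    have := (QuotientGroup.eq_one_iff q').mpr hmem
    rw [hcls] at this
    exact (QuotientGroup.eq_one_iff q).mp this)) hcls
  refine ⟨(p : Cen[z]) * h, ?_, ?_⟩
  · rw [QuotientGroup.mk_mul, (QuotientGroup.eq_one_iff _).mpr p.2, one_mul, he]
    rfl
  · have h1 : ((p : Cen[z]) : G) * ((h : G) * ((q : Cen[z]) : G) * (h : G)⁻¹) *
        ((p : Cen[z]) : G)⁻¹ = ((q : Cen[z]) : G) :=
      congrArg (fun q : Q => ((q : Cen[z]) : G)) hp
    show ((p : Cen[z]) : G) * (h : G) * ((q : Cen[z]) : G) =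
      ((q : Cen[z]) : G) * (((p : Cen[z]) : G) * (h : G))
    calc ((p : Cen[z]) : G) * (h : G) * ((q : Cen[z]) : G) =
          ((p : Cen[z]) : G) * ((h : G) * ((q : Cen[z]) : G) * (h : G)⁻¹) * ((p : Cen[z]) : G)⁻¹ *
            (((p : Cen[z]) : G) * (h : G)) := by group
      _ = _ := by rw [h1]

/-- The centraliser of the element maps into the monomial group. -/
theorem cross_of_commute (hψ : IsLeechModTwoIso Q e ψ)
    {q : Q} (hq : ψ (eightE none) = QuotientGroup.mk q) {h : Cen[z]}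
    (hh : (h : G) * ((q : Cen[z]) : G) = ((q : Cen[z]) : G) * (h : G)) {g : Co0}
    (hg : Frame.bar g = e (QuotientGroup.mk h)) : g ∈ crossGroup := by
  have h1 := hψ.2.2.2 h g hg _ q hq
  have hfix : (⟨h * q * h⁻¹, (inferInstance : Q.Normal).conj_mem _ q.2 h⟩ : Q) = q := by
    apply Subtype.ext; apply Subtype.ext
    show (h : G) * ((q : Cen[z]) : G) * (h : G)⁻¹ = _
    rw [hh]; group
  rw [hfix, ← hq, MonsterCore.psi_eq_iff hψ] at h1
  obtain ⟨w, hw⟩ := h1
  obtain ⟨j, hj⟩ := eight_congr (i := none) (w := g • eightE none) (z := -w)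
    (by rw [norm_smul', sqNorm_eightE])
    (by rw [two_zsmul, ← neg_add, ← hw]; abel)
  exact axis_of_one (i := none) hj

/-- The image of the centraliser of the element. -/
theorem image_centralizer (hS : IsExtraspecialCentralizerSetting z Q 12)
    (hψ : IsLeechModTwoIso Q e ψ) {q : Q} (hq : ψ (eightE none) = QuotientGroup.mk q) :
    ((Cen[z] ⊓ Subgroup.centralizer ({((q : Cen[z]) : G)} : Set G)).subgroupOf Cen[z]).map
      (QuotientGroup.mk' Q) = (crossGroup.map Frame.bar).comap e.toMonoidHom := by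
  ext x
  constructor
  · rintro ⟨h, ⟨-, hh⟩, rfl⟩
    obtain ⟨g, hg⟩ := Frame.bar_surjective (e (QuotientGroup.mk h))
    exact ⟨g, cross_of_commute hψ hq (Subgroup.mem_centralizer_singleton_iff.mp hh) hg, hg⟩
  · rintro ⟨g, hg, hge⟩
    obtain ⟨k, hk, hkt⟩ := lift_cross hS hψ hq hg
    refine ⟨k, ⟨k.2, Subgroup.mem_centralizer_singleton_iff.mpr hkt⟩, e.injective ?_⟩
    show e (QuotientGroup.mk k) = e x
    rw [hk]
    exact hge

theorem main (hS : IsExtraspecialCentralizerSetting z Q 12) (hψ : IsLeechModTwoIso Q e ψ)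
    {q : Q} (hq : ψ (eightE none) = QuotientGroup.mk q) {a : G}
    (ha : a * z * a⁻¹ = ((q : Cen[z]) : G)) :
    Nat.card ↥(Q.map Cen[z].subtype ⊓ (Q.map Cen[z].subtype).map (MulAut.conj a).toMonoidHom) =
        2 ^ 13 ∧
      (((Q.map Cen[z].subtype).map (MulAut.conj a).toMonoidHom ⊓ Cen[z]).subgroupOf Cen[z]).map
        (QuotientGroup.mk' Q) = Frame.diagBar.comap e.toMonoidHom := by
  classical
  set t : G := ((q : Cen[z]) : G) with ht
  obtain ⟨⟨hQp, -, hcom⟩, hc2⟩ := hS.2.2.1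
  have hmemC : ∀ {g : G}, g ∈ Cen[z] ↔ g * z = z * g := Subgroup.mem_centralizer_singleton_iff
  have htz : t ≠ z := fun h => notMem_center hψ hq
    ((Subtype.ext (Subtype.ext h) : q = MonsterCore.zQ hS) ▸ MonsterCore.zQ_center hS)
  set Qg : Subgroup G := Q.map Cen[z].subtype with hQg
  have hQgC : Qg ≤ Cen[z] := Subgroup.map_subtype_le Q
  have hcomm : ∀ x ∈ Qg, ∀ y ∈ Qg, y⁻¹ * x⁻¹ * y * x = 1 ∨ y⁻¹ * x⁻¹ * y * x = z := by
    rintro _ ⟨x, hx, rfl⟩ _ ⟨y, hy, rfl⟩
    rcases MonsterCore.center_cases hS (S5408.kk_mem hcom (⟨x, hx⟩ : Q) ⟨y, hy⟩) with h | h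
    · exact Or.inl (congrArg (fun q : Q => ((q : Cen[z]) : G)) h)
    · exact Or.inr (congrArg (fun q : Q => ((q : Cen[z]) : G)) h)
  set Qa : Subgroup G := Qg.map (MulAut.conj a).toMonoidHom with hQa
  set R : Subgroup G := Qa ⊓ Cen[z] with hR
  have hRt : ∀ x ∈ R, x * t = t * x := by
    rintro x ⟨⟨y, hy, rfl⟩, -⟩
    have hyz := hmemC.mp (hQgC hy)
    simp only [MulEquiv.coe_toMonoidHom, MulAut.conj_apply]
    calc a * y * a⁻¹ * t = a * (y * z) * a⁻¹ := by rw [← ha]; group
      _ = a * (z * y) * a⁻¹ := by rw [hyz]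
      _ = t * (a * y * a⁻¹) := by rw [← ha]; group
  let π : Cen[z] →* Spor.Co1 := e.toMonoidHom.comp (QuotientGroup.mk' Q)
  have hπQ : ∀ x : Cen[z], π x = 1 ↔ x ∈ Q := fun x =>
    ⟨fun h => (QuotientGroup.eq_one_iff x).mp (e.injective (h.trans (map_one e).symm)),
      fun h => by
        show e (QuotientGroup.mk x) = 1
        rw [(QuotientGroup.eq_one_iff x).mpr h, map_one]⟩
  -- the image is diagonal
  set N0 : Subgroup Co0 := ((R.subgroupOf Cen[z]).map π).comap Frame.bar with hN0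
  have hRp : IsPGroup 2 R := ((hQp.map Cen[z].subtype).map _).to_le inf_le_left
  have hN0p : IsPGroup 2 N0 := by
    refine IsPGroup.comap_of_ker_isPGroup ?_ _ ?_
    · exact (hRp.comap_subtype).map _
    · rw [Frame.ker_bar]
      exact IsPGroup.of_card (n := 1) (by rw [Leech.card_center]; rfl)
  have hN0le : N0 ≤ crossGroup := by
    rintro g ⟨h, hh, hhe⟩
    exact cross_of_commute hψ hq (hRt _ hh) hhe.symm
  have hN0norm : ∀ x ∈ crossGroup, ∀ n ∈ N0, x * n * x⁻¹ ∈ N0 := by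
    intro x hx n hn
    obtain ⟨r, hr, hre⟩ := hn
    obtain ⟨k, hk, hkt⟩ := lift_cross hS hψ hq hx
    refine ⟨k * r * k⁻¹, ?_, ?_⟩
    · show ((k * r * k⁻¹ : Cen[z]) : G) ∈ R
      refine ⟨?_, (k * r * k⁻¹).2⟩
      obtain ⟨⟨y, hy, hyr⟩, -⟩ := hr
      simp only [MulEquiv.coe_toMonoidHom, MulAut.conj_apply] at hyr
      have hk' : a⁻¹ * (k : G) * a ∈ Cen[z] := hmemC.mpr (by
        calc a⁻¹ * (k : G) * a * z = a⁻¹ * ((k : G) * (a * z * a⁻¹)) * a := by group
          _ = a⁻¹ * (t * (k : G)) * a := by rw [ha, hkt]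
          _ = _ := by rw [← ha]; group)
      obtain ⟨y0, hy0, rfl⟩ := hy
      refine ⟨_, ⟨(⟨_, hk'⟩ : Cen[z]) * y0 * (⟨_, hk'⟩ : Cen[z])⁻¹,
        (inferInstance : Q.Normal).conj_mem _ hy0 _, rfl⟩, ?_⟩
      simp only [MulEquiv.coe_toMonoidHom, MulAut.conj_apply]
      show a * (a⁻¹ * (k : G) * a * (y0 : G) * (a⁻¹ * (k : G) * a)⁻¹) * a⁻¹ =
        (k : G) * (r : G) * (k : G)⁻¹
      rw [show (r : G) = _ from hyr.symm]
      show _ = (k : G) * (a * (y0 : G) * a⁻¹) * (k : G)⁻¹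
      group
    · have hπk : π k = Frame.bar x := hk
      rw [map_mul, map_mul, map_inv, hπk, hre]
      simp
  have hdiag : N0 ≤ Frame.diag := Frame.le_diag N0 hN0le hN0p hN0norm
  have hEle : (R.subgroupOf Cen[z]).map π ≤ Frame.diagBar := by
    intro x hx
    obtain ⟨g, rfl⟩ := Frame.bar_surjective x
    exact ⟨g, hdiag hx, rfl⟩
  -- the pulled back element lies in `Q`
  have htmem : t * z = z * t := hmemC.mp (q : Cen[z]).2
  set u : G := a⁻¹ * z * a with hu
  have huC : u ∈ Cen[z] := hmemC.mpr (by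
    calc a⁻¹ * z * a * z = a⁻¹ * (z * (a * z * a⁻¹)) * a := by group
      _ = a⁻¹ * ((a * z * a⁻¹) * z) * a := by rw [ha, htmem]
      _ = z * (a⁻¹ * z * a) := by group)
  set uC : Cen[z] := ⟨u, huC⟩
  have hz2 : z * z = 1 := by
    have := pow_orderOf_eq_one z
    rw [hS.1, pow_two] at this
    exact this
  have huQ : uC ∈ Q := by
    obtain ⟨k, hk, hkt⟩ := lift_cross hS hψ hq
      (Frame.permHom_mem_cross ⟨shift23, shift23_mem⟩)
    set k1 : Cen[z] := k ^ (2 ^ 25) with hk1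
    have hk1pow : k1 ^ 23 = 1 := by
      have hmem : k ^ 23 ∈ Q := (hπQ _).mp (by
        rw [map_pow, show π k = Frame.bar shiftElt from hk, ← map_pow,
          show shiftElt ^ 23 = 1 from orderOf_shiftElt ▸ pow_orderOf_eq_one shiftElt, map_one])
      have h1 := pow_card_eq_one' (x := (⟨_, hmem⟩ : Q))
      rw [hS.2.2.2.1] at h1
      have h2 : (k ^ 23) ^ (2 ^ (2 * 12 + 1)) = 1 := by
        simpa only [SubgroupClass.coe_pow, OneMemClass.coe_one] using congrArg Subtype.val h1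
      rw [hk1, ← pow_mul, mul_comm, pow_mul]
      exact h2
    have hk1t : (k1 : G) * t = t * (k1 : G) := by
      rw [hk1, SubgroupClass.coe_pow]
      exact (Commute.pow_left hkt _).eq
    have hk' : a⁻¹ * (k1 : G) * a ∈ Cen[z] := hmemC.mpr (by
      calc a⁻¹ * (k1 : G) * a * z = a⁻¹ * ((k1 : G) * (a * z * a⁻¹)) * a := by group
        _ = a⁻¹ * (t * (k1 : G)) * a := by rw [ha, hk1t]
        _ = _ := by rw [← ha]; group)
    set m : Cen[z] := ⟨_, hk'⟩ with hm
    have hm23 : m ^ 23 = 1 := by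
      apply Subtype.ext
      rw [SubgroupClass.coe_pow, Subgroup.coe_one]
      show (a⁻¹ * (k1 : G) * a) ^ 23 = 1
      have h := congrArg Subtype.val hk1pow
      rw [SubgroupClass.coe_pow, Subgroup.coe_one] at h
      calc (a⁻¹ * (k1 : G) * a) ^ 23 = (a⁻¹ * (k1 : G) * (a⁻¹)⁻¹) ^ 23 := by rw [inv_inv]
        _ = a⁻¹ * (k1 : G) ^ 23 * (a⁻¹)⁻¹ := conj_pow
        _ = 1 := by rw [h]; group
    have hk1ne : π k1 ≠ 1 := by
      intro h
      rw [hk1, map_pow, show π k = Frame.bar shiftElt from hk, ← map_pow, Frame.bar_eq_one] at h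
      have hs : shiftElt ^ (2 ^ 25) = shiftElt ^ ((2 ^ 25) % 23) := by
        rw [← orderOf_shiftElt, pow_mod_orderOf]
      rw [hs] at h
      refine not_central_of_order23 ?_ h
      rw [Nat.Coprime.orderOf_pow (by rw [orderOf_shiftElt]; norm_num), orderOf_shiftElt]
    have hy : orderOf (π m) = 23 := by
      have : Fact (Nat.Prime 23) := ⟨by norm_num⟩
      refine orderOf_eq_prime (by rw [← map_pow, hm23, map_one]) fun h => hk1ne ?_
      have hmQ : m ∈ Q := (hπQ m).mp h
      have hm1 : m = 1 := by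
        have h1 := pow_card_eq_one' (x := (⟨m, hmQ⟩ : Q))
        rw [hS.2.2.2.1] at h1
        have h2 : m ^ (2 ^ (2 * 12 + 1)) = 1 := by
          simpa only [SubgroupClass.coe_pow, OneMemClass.coe_one] using congrArg Subtype.val h1
        have h3 := pow_gcd_eq_one.mpr ⟨h2, hm23⟩
        rwa [show Nat.gcd (2 ^ (2 * 12 + 1)) 23 = 1 by norm_num, pow_one] at h3
      have h4 : (k1 : G) = 1 := by
        have h5 : a⁻¹ * (k1 : G) * a = 1 := congrArg Subtype.val hm1
        calc (k1 : G) = a * (a⁻¹ * (k1 : G) * a) * a⁻¹ := by group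
          _ = 1 := by rw [h5]; group
      rw [show k1 = 1 from Subtype.ext h4, map_one]
    refine (hπQ uC).mp (Frame.eq_one_of_commute_23 hy ?_ ?_)
    · rw [← map_mul, show uC * uC = 1 from Subtype.ext (by
        show a⁻¹ * z * a * (a⁻¹ * z * a) = 1
        calc a⁻¹ * z * a * (a⁻¹ * z * a) = a⁻¹ * (z * z) * a := by group
          _ = 1 := by rw [hz2]; group), map_one]
    · rw [← map_mul, ← map_mul]
      refine congrArg π (Subtype.ext ?_)
      show a⁻¹ * z * a * (a⁻¹ * (k1 : G) * a) = a⁻¹ * (k1 : G) * a * (a⁻¹ * z * a)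
      calc a⁻¹ * z * a * (a⁻¹ * (k1 : G) * a) = a⁻¹ * (z * (k1 : G)) * a := by group
        _ = a⁻¹ * ((k1 : G) * z) * a := by rw [hmemC.mp k1.2]
        _ = _ := by group
  -- lower bound for `R`
  have hRlow : 2 ^ 24 ≤ Nat.card R := by
    let q0 : Q := ⟨uC, huQ⟩
    have horb : ((Subgroup.centralizer ({q0} : Set Q))).index ≤ 2 := by
      have h1 := MulAction.index_stabilizer (ConjAct Q) q0
      rw [ConjAct.stabilizer_eq_centralizer] at h1
      change (Subgroup.centralizer ({q0} : Set Q)).index = _ at h1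
      rw [h1]
      refine le_trans (Set.ncard_le_ncard (t := {q0, q0 * MonsterCore.zQ hS}) ?_ (Set.toFinite _)) ?_
      · rintro _ ⟨p, rfl⟩
        have h2 : q0⁻¹ * (p • q0) ∈ Subgroup.center Q := by
          rw [← hcom]
          have := Subgroup.commutator_mem_commutator (Subgroup.mem_top q0⁻¹)
            (Subgroup.mem_top (ConjAct.ofConjAct p))
          simpa [commutatorElement_def, commutator_def, mul_assoc, ConjAct.smul_def] using this
        rcases MonsterCore.center_cases hS h2 with h | h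
        · left; exact (inv_mul_eq_one.mp h).symm
        · right; rw [Set.mem_singleton_iff, ← h, mul_inv_cancel_left]
      · exact le_trans (Set.ncard_insert_le _ _) (by simp)
    have hcard := Subgroup.card_mul_index (Subgroup.centralizer ({q0} : Set Q))
    rw [hS.2.2.2.1] at hcard
    have hle : Nat.card (Subgroup.centralizer ({q0} : Set Q)) ≤ Nat.card R := by
      refine Nat.card_le_card_of_injective (fun x => ⟨a * (((x : Q) : Cen[z]) : G) * a⁻¹,
        ⟨(((x : Q) : Cen[z]) : G), ⟨((x : Q) : Cen[z]), (x : Q).2, rfl⟩, rfl⟩, hmemC.mpr ?_⟩) ?_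
      · have h1 : (((x : Q) : Cen[z]) : G) * u = u * (((x : Q) : Cen[z]) : G) :=
          congrArg (fun w : Q => ((w : Cen[z]) : G)) (Subgroup.mem_centralizer_singleton_iff.mp x.2)
        calc a * (((x : Q) : Cen[z]) : G) * a⁻¹ * z = a * ((((x : Q) : Cen[z]) : G) * u) * a⁻¹ := by
              rw [hu]; group
          _ = a * (u * (((x : Q) : Cen[z]) : G)) * a⁻¹ := by rw [h1]
          _ = _ := by rw [hu]; group
      · intro x y hxy
        have h1 : a * (((x : Q) : Cen[z]) : G) * a⁻¹ = a * (((y : Q) : Cen[z]) : G) * a⁻¹ :=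
          congrArg Subtype.val hxy
        exact Subtype.ext (Subtype.ext (Subtype.ext (mul_left_cancel (mul_right_cancel h1))))
    by_contra hlt
    have : Nat.card (Subgroup.centralizer ({q0} : Set Q)) *
        (Subgroup.centralizer ({q0} : Set Q)).index ≤ (2 ^ 24 - 1) * 2 :=
      Nat.mul_le_mul (by omega) horb
    rw [hcard] at this
    norm_num at this
  -- the intersection is abelian
  have hI : Qg ⊓ Qa = Qg ⊓ R := by
    rw [hR, ← inf_assoc]
    exact (inf_eq_left.mpr (inf_le_left.trans hQgC)).symm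
  have hIab : ∀ x ∈ Qg ⊓ Qa, ∀ y ∈ Qg ⊓ Qa, x * y = y * x := by
    intro x hx y hy
    have h1 := hcomm x hx.1 y hy.1
    obtain ⟨x', hx', hxe⟩ := hx.2
    obtain ⟨y', hy', hye⟩ := hy.2
    have h2 := hcomm x' hx' y' hy'
    simp only [MulEquiv.coe_toMonoidHom, MulAut.conj_apply] at hxe hye
    have e0 : y⁻¹ * x⁻¹ * y * x = a * (y'⁻¹ * x'⁻¹ * y' * x') * a⁻¹ := by
      rw [← hxe, ← hye]; group
    rcases h1 with h1 | h1
    · calc x * y = x * y * (y⁻¹ * x⁻¹ * y * x) := by rw [h1, mul_one]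
        _ = y * x := by group
    exfalso
    rw [h1] at e0
    rcases h2 with h2 | h2
    · rw [h2, mul_one, mul_inv_cancel] at e0
      have h3 := hS.1
      rw [e0, orderOf_one] at h3
      norm_num at h3
    · rw [h2] at e0
      exact htz (ha.symm.trans e0.symm)
  have hIcard : Nat.card ↥(Qg ⊓ Qa) ≤ 2 ^ 13 := by
    let A : Subgroup Q := (Qa.subgroupOf Cen[z]).subgroupOf Q
    have hA : Nat.card A = Nat.card ↥(Qg ⊓ Qa) := by
      refine Nat.card_congr
        { toFun := fun x => ⟨(((x : Q) : Cen[z]) : G), ⟨_, (x : Q).2, rfl⟩, x.2⟩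
          invFun := fun x => ⟨⟨⟨x, hQgC x.2.1⟩, ?_⟩, x.2.2⟩
          left_inv := fun x => rfl
          right_inv := fun x => rfl }
      obtain ⟨w, hw, hwe⟩ := x.2.1
      rwa [← (Subtype.ext hwe : w = (⟨(x : G), hQgC x.2.1⟩ : Cen[z]))]
    have h := MonsterCore.card_sq_le hcom hc2 A (fun x hx y hy =>
      Subtype.ext (Subtype.ext (hIab _ ⟨⟨_, x.2, rfl⟩, hx⟩ _ ⟨⟨_, y.2, rfl⟩, hy⟩)))
    rw [hA, hS.2.2.2.1] at h
    by_contra hlt
    have : (2 ^ 13 + 1) * (2 ^ 13 + 1) ≤ Nat.card ↥(Qg ⊓ Qa) * Nat.card ↥(Qg ⊓ Qa) :=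
      Nat.mul_le_mul (by omega) (by omega)
    norm_num at h this
    omega
  -- counting
  set R' : Subgroup Cen[z] := R.subgroupOf Cen[z] with hR'
  have hker : π.ker = Q := by
    ext x
    rw [MonoidHom.mem_ker]
    exact hπQ x
  have hcard2 : Nat.card R = Nat.card ↥(Qg ⊓ Qa) * Nat.card ↥(R'.map π) := by
    have hmap : (Q ⊓ R').map Cen[z].subtype = Qg ⊓ R := by
      rw [Subgroup.map_inf _ _ _ Subtype.val_injective, hR', Subgroup.map_subgroupOf_eq_of_le
        inf_le_right]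
    rw [hI, ← hmap, Subgroup.card_map_of_injective Subtype.val_injective, ← hker,
      ← Subgroup.relIndex_ker, ← Subgroup.relIndex_bot_left (H := π.ker ⊓ R'),
      ← Subgroup.inf_relIndex_right π.ker R',
      Subgroup.relIndex_mul_relIndex ⊥ (π.ker ⊓ R') R' bot_le inf_le_right,
      Subgroup.relIndex_bot_left]
    exact Nat.card_congr (Subgroup.subgroupOfEquivOfLe inf_le_right).toEquiv.symm
  have hEcard : Nat.card ↥(R'.map π) ≤ 2048 := by
    rw [← Frame.card_diagBar]
    have : Finite Frame.diagBar :=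
      Nat.finite_of_card_ne_zero (by rw [Frame.card_diagBar]; norm_num)
    exact Nat.card_le_card_of_injective _ (Subgroup.inclusion_injective hEle)
  have hI13 : Nat.card ↥(Qg ⊓ Qa) = 2 ^ 13 := by
    refine le_antisymm hIcard ?_
    have h := Nat.mul_le_mul_left (Nat.card ↥(Qg ⊓ Qa)) hEcard
    rw [← hcard2] at h
    norm_num at hRlow h ⊢
    omega
  refine ⟨hI13, ?_⟩
  have hEeq : R'.map π = Frame.diagBar := by
    have : Finite Frame.diagBar :=
      Nat.finite_of_card_ne_zero (by rw [Frame.card_diagBar]; norm_num)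
    refine Subgroup.eq_of_le_of_card_ge hEle ?_
    rw [Frame.card_diagBar]
    rw [hI13] at hcard2
    rw [hcard2] at hRlow
    show 2048 ≤ Nat.card ↥(R'.map π)
    revert hRlow
    generalize Nat.card ↥(R'.map π) = c
    intro hc
    norm_num at hc
    omega
  rw [← hEeq, show R'.map π = (R'.map (QuotientGroup.mk' Q)).map e.toMonoidHom from
    (Subgroup.map_map R' e.toMonoidHom (QuotientGroup.mk' Q)).symm,
    Subgroup.comap_map_eq_self_of_injective e.injective]

end Cfsg.Agent.Lib.LeechMod2.MonsterCross
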