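import Cfsg.Agent.Lib.LeechMod2.MonsterCross
import Cfsg.Agent.Lib.Leech.PairStab

/-!
In a group of Monster type: commutation in `Q` and the inner product, and an involution of `Q`
not conjugate to `z` as an element of `Q ∩ Q'` for some conjugate of `z` in `Q`.
-/

set_option autoImplicit false

namespace Cfsg.Agent.Lib.LeechMod2.MonsterPairing

open Cfsg Cfsg.Agent.Lib.Leech

universe u

/-! ### extraspecial groups -/

section Group

variable {P : Type u} [Group P]

open Cfsg.Agent.S5408 (kk kk_mem kk_mul)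

/-- An element commuting with the centraliser of a non-central element, that centraliser having
index two, is central up to that element. -/
theorem cases_of_centralizes (hcom : commutator P = Subgroup.center P)
    (hc : Nat.card (Subgroup.center P) = 2) {q x : P}
    (hx : ∀ p : P, Commute p q → Commute p x)
    (h2 : ∀ p r : P, ¬ Commute p q → ¬ Commute r q → Commute (p * r) q) :
    x ∈ Subgroup.center P ∨ x * q ∈ Subgroup.center P := by
  by_cases hxc : x ∈ Subgroup.center P
  · exact Or.inl hxc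
  refine Or.inr (Subgroup.mem_center_iff.mpr fun p => ?_)
  by_cases hp : Commute p q
  · exact ((hx p hp).mul_right hp).eq
  obtain ⟨r, hr⟩ : ∃ r, ¬ Commute r x := by
    by_contra h
    push Not at h
    exact hxc (Subgroup.mem_center_iff.mpr fun r => (h r).eq)
  have hrq : ¬ Commute r q := fun h => hr (hx r h)
  have hpx : ¬ Commute p x := by
    intro h
    have h3 : Commute (p * r) x := hx _ (h2 p r hp hrq)
    have h4 := h.inv_left.mul_left h3
    rw [inv_mul_cancel_left] at h4
    exact hr h4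
  have hkk : kk (x * q) p = 1 := by
    rw [kk_mul hcom]
    have hx1 : kk x p ≠ 1 := fun h => hpx (MonsterCore.kk_eq_one.mp h).symm
    have hq1 : kk q p ≠ 1 := fun h => hp (MonsterCore.kk_eq_one.mp h).symm
    rw [MonsterCore.card_center_two_cases hc (kk_mem hcom x p) (kk_mem hcom q p) hx1 hq1]
    have h := pow_card_eq_one' (x := (⟨_, kk_mem hcom q p⟩ : Subgroup.center P))
    rw [hc, pow_two] at h
    exact congrArg Subtype.val h
  exact (MonsterCore.kk_eq_one.mp hkk).eq.symm

end Group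

/-! ### vectors orthogonal to the pair -/

theorem dot_U (x : leechLattice) :
    dotInt (vec Spor.leechU) (vec x) = 4 * (vec x none + vec x (some 0)) := by
  show ∑ i : GolayPt, Spor.vecU i * vec x i = _
  rw [Fintype.sum_option, Finset.sum_eq_single (0 : ZMod 23)
    (fun a _ ha => by simp [Spor.vecU, ha]) (fun h => absurd (Finset.mem_univ _) h)]
  simp [Spor.vecU, mul_add]

theorem sqNorm_U : sqNorm (vec Spor.leechU) = 32 := by
  show ∑ i : GolayPt, Spor.vecU i ^ 2 = 32
  rw [Fintype.sum_option, Finset.sum_eq_single (0 : ZMod 23)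
    (fun a _ ha => by simp [Spor.vecU, ha]) (fun h => absurd (Finset.mem_univ _) h)]
  simp [Spor.vecU]

/-- A vector moved by each sign change into its class or the class shifted by an axis is
orthogonal to the pair vector modulo two. -/
theorem perp_of_flips (w : leechLattice)
    (h : ∀ (c : Finset GolayPt) (hc : IsCode c),
      (∃ x, flip c hc • w - w = x + x) ∨ ∃ x, flip c hc • w - (w + eightE none) = x + x) :
    (16 : ℤ) ∣ dotInt (vec Spor.leechU) (vec w) := by
  classical
  have hkey : ∀ (c : Finset GolayPt), IsCode c → ∃ x : leechLattice, ∃ ε : ℤ,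
      ∀ i, vec x i = (if i ∈ c then -vec w i else 0) + (if i = none then -4 * ε else 0) := by
    intro c hc
    rcases h c hc with ⟨x, hx⟩ | ⟨x, hx⟩
    · refine ⟨x, 0, fun i => ?_⟩
      have h1 := congrFun (congrArg vec hx) i
      simp only [vec, AddSubgroup.coe_sub, AddSubgroup.coe_add, Pi.sub_apply, Pi.add_apply] at h1
      have h2 := flip_smul hc w i
      simp only [vec] at h2 ⊢
      rw [h2] at h1
      split_ifs at h1 ⊢ <;> omega
    · refine ⟨x, 1, fun i => ?_⟩
      have h1 := congrFun (congrArg vec hx) i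
      simp only [vec, AddSubgroup.coe_sub, AddSubgroup.coe_add, Pi.sub_apply, Pi.add_apply] at h1
      have h2 := flip_smul hc w i
      simp only [vec, eightE, Pi.single_apply] at h1 h2 ⊢
      rw [h2] at h1
      split_ifs at h1 ⊢ <;> omega
  -- an octad through two given points
  have hoct : ∀ a b : GolayPt, ∃ o : Finset GolayPt, IsCode o ∧ o.card = 8 ∧ a ∈ o ∧ b ∈ o := by
    intro a b
    obtain ⟨t, hat, -, htc⟩ := Finset.exists_subsuperset_card_eq (n := 5)
      (Finset.subset_univ ({a, b} : Finset GolayPt))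
      (le_trans Finset.card_le_two (by norm_num)) (by rw [Finset.card_univ, card_pt]; norm_num)
    obtain ⟨o, ⟨ho, hto⟩, -⟩ := Golay.octads_steiner.2 t htc
    exact ⟨o, (mem_octads.mp ho).1, (mem_octads.mp ho).2, hto (hat (by simp)), hto (hat (by simp))⟩
  rcases mem_leech_iff.mp w.2 with hw | hw
  · -- even
    set s := res 2 (vec w) with hs
    have hinter : ∀ c : Finset GolayPt, IsCode c → IsCode (s ∩ c) := by
      intro c hc
      obtain ⟨x, ε, hx⟩ := hkey c hc
      rcases mem_leech_iff.mp x.2 with hxe | hxo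
      · convert hxe.2.1 using 1
        ext i
        have h1 := hx i
        have h2 := hw.1 i
        simp only [vec] at h1
        rw [Finset.mem_inter, hs, mem_res, mem_res]
        simp only [vec]
        split_ifs at h1 with h3 <;> simp only [h3, and_true, and_false, false_iff] <;> omega
      · exfalso
        have h1 := hx none
        have h2 := hxo.1 none
        have h3 := hw.1 none
        simp only [vec] at h1
        split_ifs at h1 <;> omega
    have hcase : ∀ a b : GolayPt, a ∈ s → b ∈ s := by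
      intro a b ha
      by_contra hb
      obtain ⟨o, ho, ho8, hao, hbo⟩ := hoct a b
      have h8 := (hinter o ho).weights
      have hpos : 0 < (s ∩ o).card := Finset.card_pos.mpr ⟨a, Finset.mem_inter.mpr ⟨ha, hao⟩⟩
      have hlt : (s ∩ o).card < o.card := Finset.card_lt_card
        ⟨Finset.inter_subset_right, fun hsub => hb (Finset.mem_inter.mp (hsub hbo)).1⟩
      omega
    have h1 : vec w none % 4 = vec w (some 0) % 4 := by
      have e1 := hw.1 none
      have e2 := hw.1 (some 0)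
      have f1 := hcase none (some 0)
      have f2 := hcase (some 0) none
      simp only [hs, mem_res] at f1 f2
      simp only [vec] at f1 f2 ⊢
      omega
    have e1 := hw.1 none
    rw [dot_U]
    simp only [vec] at h1 ⊢
    omega
  · exfalso
    obtain ⟨o, ho, ho8, hno, -⟩ := hoct (some 0) (some 0)
    obtain ⟨b, hb⟩ : ∃ b, b ∉ o := by
      by_contra hall
      push Not at hall
      rw [Finset.eq_univ_iff_forall.mpr hall, Finset.card_univ, card_pt] at ho8
      omega
    obtain ⟨x, ε, hx⟩ := hkey o ho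
    have h1 := hx (some 0)
    have h2 := hx b
    have e1 := hw.1 (some 0)
    rw [if_pos hno] at h1
    rw [if_neg hb] at h2
    simp only [vec] at h1 h2
    rw [if_neg (by simp : (some (0 : ZMod 23) : GolayPt) ≠ none)] at h1
    rcases mem_leech_iff.mp x.2 with hxe | hxo
    · have := hxe.1 (some 0); omega
    · have := hxo.1 b
      split_ifs at h2 <;> omega

/-! ### Monster type -/

local notation "Cen[" z "]" => Subgroup.centralizer ({z} : Set _)

variable {G : Type u} [Group G] [Finite G] {z : G}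
  {Q : Subgroup (Subgroup.centralizer ({z} : Set G))} [Q.Normal]
  {e : Cen[z] ⧸ Q ≃* Spor.Co1} {ψ : leechLattice → Q ⧸ Subgroup.center Q}

theorem commute_iff (hS : IsExtraspecialCentralizerSetting z Q 12) (hψ : IsLeechModTwoIso Q e ψ)
    {v w : leechLattice} {p q : Q} (hp : ψ v = QuotientGroup.mk p) (hq : ψ w = QuotientGroup.mk q) :
    Commute p q ↔ (16 : ℤ) ∣ dotInt (vec v) (vec w) := by
  obtain ⟨⟨-, -, hcom⟩, hc2⟩ := hS.2.2.1
  have hpq : ψ (v + w) = QuotientGroup.mk (p * q) := by
    rw [hψ.1, hp, hq, QuotientGroup.mk_mul]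
  have h1 := MonsterCore.square_iff hS hψ hp
  have h2 := MonsterCore.square_iff hS hψ hq
  have h3 := MonsterCore.square_iff hS hψ hpq
  rw [S5408.sq_mul_eq hcom] at h3
  have hsq : ∀ (x : Q) (u : leechLattice), ψ u = QuotientGroup.mk x →
      x * x ∈ Subgroup.center Q := fun x u hu => by
    rw [← QuotientGroup.eq_one_iff, QuotientGroup.mk_mul, ← hu, ← hψ.1, hψ.2.2.1]
    exact ⟨u, rfl⟩
  have ha := hsq p v hp
  have hb := hsq q w hq
  have hk' := S5408.kk_mem hcom p q
  rw [← MonsterCore.kk_eq_one]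
  obtain ⟨k1, hk1⟩ := sqNorm_dvd v.2
  obtain ⟨k2, hk2⟩ := sqNorm_dvd w.2
  obtain ⟨k3, hk3⟩ := sqNorm_dvd (v + w).2
  obtain ⟨d, hd⟩ := dotInt_dvd v.2 w.2
  have hadd := sqNorm_add (vec v) (vec w)
  simp only [vec, AddSubgroup.coe_add] at *
  rw [hk1, Int.mul_ediv_cancel_left _ (by norm_num)] at h1
  rw [hk2, Int.mul_ediv_cancel_left _ (by norm_num)] at h2
  rw [show sqNorm ((v : GolayPt → ℤ) + (w : GolayPt → ℤ)) = 16 * k3 from hk3,
    Int.mul_ediv_cancel_left _ (by norm_num)] at h3
  have hk3e : k3 = k1 + k2 + d := by omega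
  have hcase := fun {c : Q} (h : c ∈ Subgroup.center Q) => MonsterCore.center_cases hS h
  have hz1 : MonsterCore.zQ hS ≠ 1 := fun h0 => by
    have : z = 1 := congrArg (fun q : Q => ((q : Cen[z]) : G)) h0
    have h9 := hS.1
    rw [this, orderOf_one] at h9
    norm_num at h9
  have hzz : MonsterCore.zQ hS * MonsterCore.zQ hS = 1 := by
    apply Subtype.ext; apply Subtype.ext
    show z * z = 1
    have := pow_orderOf_eq_one z
    rwa [hS.1, pow_two] at this
  rcases hcase ha with e1 | e1 <;> rcases hcase hb with e2 | e2 <;>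
    rcases hcase hk' with e3 | e3 <;>
    simp only [e1, e2, e3, one_mul, mul_one, hzz, hz1, iff_false, false_iff, iff_true, true_iff]
      at h1 h2 h3 ⊢ <;>
    omega

/-- A twisted identification sending the pair vector to a given class of norm `32`. -/
theorem exists_standard (hψ : IsLeechModTwoIso Q e ψ) {v : leechLattice}
    (hv : sqNorm (vec v) = 32) :
    ∃ (e' : Cen[z] ⧸ Q ≃* Spor.Co1) (ψ' : leechLattice → Q ⧸ Subgroup.center Q),
      IsLeechModTwoIso Q e' ψ' ∧ ψ' Spor.leechU = ψ v := by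
  obtain ⟨γ, hγ⟩ : ∃ γ : Co0, γ • Spor.leechU = v := by
    obtain ⟨g₁, h₁⟩ := transitive32 (p := none) (q := some 0) (by simp) sqNorm_U
    obtain ⟨g₂, h₂⟩ := transitive32 (p := none) (q := some 0) (by simp) hv
    exact exists_smul_eq_of (h₁.trans h₂.symm)
  refine ⟨e.trans (MulAut.conj (Frame.bar γ)⁻¹), fun w => ψ (γ • w),
    ⟨fun a b => by simp only [smul_add', hψ.1], ?_, ?_, ?_⟩, congrArg ψ hγ⟩
  · intro y
    obtain ⟨w, hw⟩ := hψ.2.1 y
    exact ⟨γ⁻¹ • w, by simp [hw]⟩
  · intro w
    rw [hψ.2.2.1]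
    constructor
    · rintro ⟨x, hx⟩
      refine ⟨γ⁻¹ • x, ?_⟩
      rw [← smul_add', ← hx, inv_smul_smul]
    · rintro ⟨x, rfl⟩
      exact ⟨γ • x, smul_add' γ x x⟩
  · intro h g hg w q hq
    have h1 : (QuotientGroup.mk (γ * g * γ⁻¹) : Spor.Co1) = e (QuotientGroup.mk h) := by
      show Frame.bar (γ * g * γ⁻¹) = _
      have h2 : Frame.bar g = (Frame.bar γ)⁻¹ * e (QuotientGroup.mk h) * ((Frame.bar γ)⁻¹)⁻¹ := hg
      rw [map_mul, map_mul, map_inv, h2]
      group
    have h3 := hψ.2.2.2 h _ h1 (γ • w) q hq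
    rw [← h3]
    show ψ (γ • g • w) = _
    rw [mul_smul, mul_smul, inv_smul_smul]

/-- Some conjugate of `z` in `Q` has a conjugating element carrying `Q` onto a subgroup through the
element of the pair vector. -/
theorem exists_conjugator (hS : IsExtraspecialCentralizerSetting z Q 12)
    (hψ : IsLeechModTwoIso Q e ψ) {qt : Q} (hqt : ψ Spor.leechU = QuotientGroup.mk qt) :
    ∃ (qs : Q) (a : G), ψ (eightE none) = QuotientGroup.mk qs ∧
      a * z * a⁻¹ = ((qs : Cen[z]) : G) ∧ ((qs : Cen[z]) : G) ≠ z ∧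
      ((qt : Cen[z]) : G) ∈ (Q.map Cen[z].subtype).map (MulAut.conj a).toMonoidHom := by
  classical
  obtain ⟨qs, hqs'⟩ := QuotientGroup.mk_surjective (ψ (eightE none))
  have hqs : ψ (eightE none) = QuotientGroup.mk qs := hqs'.symm
  obtain ⟨hconj, hsne⟩ := (MonsterCore.conj_iff hS hψ qs).mpr ⟨_, sqNorm_eightE none, hqs⟩
  obtain ⟨a, ha⟩ := isConj_iff.mp hconj
  refine ⟨qs, a, hqs, ha, hsne, ?_⟩
  obtain ⟨hI, hE⟩ := MonsterCross.main hS hψ hqs ha
  obtain ⟨⟨-, -, hcom⟩, hc2⟩ := hS.2.2.1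
  set s : G := ((qs : Cen[z]) : G) with hs
  set Qg : Subgroup G := Q.map Cen[z].subtype with hQg
  set Qa : Subgroup G := Qg.map (MulAut.conj a).toMonoidHom with hQa
  have hQgC : Qg ≤ Cen[z] := Subgroup.map_subtype_le Q
  have hcomm : ∀ x ∈ Qg, ∀ y ∈ Qg, y⁻¹ * x⁻¹ * y * x = 1 ∨ y⁻¹ * x⁻¹ * y * x = z := by
    rintro _ ⟨x, hx, rfl⟩ _ ⟨y, hy, rfl⟩
    rcases MonsterCore.center_cases hS (S5408.kk_mem hcom (⟨x, hx⟩ : Q) ⟨y, hy⟩) with h | h
    · exact Or.inl (congrArg (fun q : Q => ((q : Cen[z]) : G)) h)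
    · exact Or.inr (congrArg (fun q : Q => ((q : Cen[z]) : G)) h)
  let A : Subgroup Q := (Qa.subgroupOf Cen[z]).subgroupOf Q
  have hA : Nat.card A = 2 ^ 13 := by
    rw [← hI]
    refine Nat.card_congr
      { toFun := fun x => ⟨(((x : Q) : Cen[z]) : G), ⟨_, (x : Q).2, rfl⟩, x.2⟩
        invFun := fun x => ⟨⟨⟨x, hQgC x.2.1⟩, ?_⟩, x.2.2⟩
        left_inv := fun x => rfl
        right_inv := fun x => rfl }
    obtain ⟨w, hw, hwe⟩ := x.2.1
    rwa [← (Subtype.ext hwe : w = (⟨(x : G), hQgC x.2.1⟩ : Cen[z]))]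
  -- every element of `A` commutes with `qt`
  have hperp : ∀ x ∈ A, Commute qt x := by
    intro x hx
    obtain ⟨w, hw⟩ := hψ.2.1 (QuotientGroup.mk x)
    refine (commute_iff hS hψ hqt hw).mpr (perp_of_flips w fun c hc => ?_)
    have hmem : (Frame.bar (flip c hc)) ∈ Frame.diagBar := ⟨_, Frame.flip_mem_diag c hc, rfl⟩
    obtain ⟨y, hy⟩ := e.surjective (Frame.bar (flip c hc))
    have hymem : y ∈ Frame.diagBar.comap e.toMonoidHom := by
      show e y ∈ Frame.diagBar
      rw [hy]; exact hmem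
    rw [← hE] at hymem
    obtain ⟨k, hk, rfl⟩ := hymem
    have hact := hψ.2.2.2 k (flip c hc) hy.symm w x hw
    obtain ⟨⟨k', hk', hke⟩, -⟩ := (show (k : G) ∈ Qa ⊓ Cen[z] from hk)
    obtain ⟨x', hx', hxe⟩ := (show ((x : Cen[z]) : G) ∈ Qa from hx)
    simp only [MulEquiv.coe_toMonoidHom, MulAut.conj_apply] at hke hxe
    have hc1 := hcomm x'⁻¹ (inv_mem hx') k'⁻¹ (inv_mem hk')
    rw [inv_inv, inv_inv] at hc1
    have hkx : (k : G) * ((x : Cen[z]) : G) * (k : G)⁻¹ = ((x : Cen[z]) : G) ∨
        (k : G) * ((x : Cen[z]) : G) * (k : G)⁻¹ = s * ((x : Cen[z]) : G) := by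
      rcases hc1 with hc1 | hc1
      · left
        calc (k : G) * ((x : Cen[z]) : G) * (k : G)⁻¹
            = a * (k' * x' * k'⁻¹ * x'⁻¹) * x' * a⁻¹ := by rw [← hke, ← hxe]; group
          _ = ((x : Cen[z]) : G) := by rw [hc1, ← hxe]; group
      · right
        calc (k : G) * ((x : Cen[z]) : G) * (k : G)⁻¹
            = a * (k' * x' * k'⁻¹ * x'⁻¹) * a⁻¹ * (a * x' * a⁻¹) := by rw [← hke, ← hxe]; group
          _ = s * ((x : Cen[z]) : G) := by rw [hc1, ha, hxe]
    rcases hkx with h | h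
    · left
      rw [← MonsterCore.psi_eq_iff hψ, hact, hw]
      exact congrArg QuotientGroup.mk (Subtype.ext (Subtype.ext h))
    · right
      rw [← MonsterCore.psi_eq_iff hψ, hact, hψ.1, hqs, hw, ← QuotientGroup.mk_mul]
      have h' : (⟨k * x * k⁻¹, (inferInstance : Q.Normal).conj_mem _ x.2 k⟩ : Q) = qs * x :=
        Subtype.ext (Subtype.ext h)
      rw [h', QuotientGroup.mk_mul, QuotientGroup.mk_mul]
      rw [← hw, ← hqs, ← hψ.1, ← hψ.1, add_comm]
  -- maximality
  have hAab : ∀ x ∈ A, ∀ y ∈ A, Commute x y := by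
    intro x hx y hy
    have h1 := hcomm _ ⟨(x : Cen[z]), x.2, rfl⟩ _ ⟨(y : Cen[z]), y.2, rfl⟩
    obtain ⟨x', hx', hxe⟩ := (show ((x : Cen[z]) : G) ∈ Qa from hx)
    obtain ⟨y', hy', hye⟩ := (show ((y : Cen[z]) : G) ∈ Qa from hy)
    have h2 := hcomm x' hx' y' hy'
    simp only [MulEquiv.coe_toMonoidHom, MulAut.conj_apply] at hxe hye
    apply Subtype.ext; apply Subtype.ext
    show ((x : Cen[z]) : G) * ((y : Cen[z]) : G) = ((y : Cen[z]) : G) * ((x : Cen[z]) : G)
    simp only [Subgroup.coe_subtype] at h1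
    rw [← hxe, ← hye] at h1 ⊢
    have e0 : (a * y' * a⁻¹)⁻¹ * (a * x' * a⁻¹)⁻¹ * (a * y' * a⁻¹) * (a * x' * a⁻¹) =
        a * (y'⁻¹ * x'⁻¹ * y' * x') * a⁻¹ := by group
    rcases h1 with h1 | h1
    · calc a * x' * a⁻¹ * (a * y' * a⁻¹) = a * x' * a⁻¹ * (a * y' * a⁻¹) *
          ((a * y' * a⁻¹)⁻¹ * (a * x' * a⁻¹)⁻¹ * (a * y' * a⁻¹) * (a * x' * a⁻¹)) := by
            rw [h1, mul_one]
        _ = _ := by group
    exfalso
    rw [h1] at e0
    rcases h2 with h2 | h2
    · rw [h2, mul_one, mul_inv_cancel] at e0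
      have h3 := hS.1
      rw [e0, orderOf_one] at h3
      norm_num at h3
    · rw [h2] at e0
      exact hsne (ha.symm.trans e0.symm)
  by_contra hnot
  have hqA : qt ∉ A := hnot
  set B : Subgroup Q := A ⊔ Subgroup.zpowers qt with hB
  have hAC : A ≤ Subgroup.centralizer (B : Set Q) := by
    intro x hx
    rw [Subgroup.mem_centralizer_iff]
    intro y hy
    have hle : B ≤ Subgroup.centralizer ({x} : Set Q) := sup_le
      (fun w hw => Subgroup.mem_centralizer_singleton_iff.mpr (hAab w hw x hx).eq)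
      (Subgroup.zpowers_le.mpr (Subgroup.mem_centralizer_singleton_iff.mpr (hperp x hx).eq))
    exact Subgroup.mem_centralizer_singleton_iff.mp (hle hy)
  have hqC : qt ∈ Subgroup.centralizer (B : Set Q) := by
    rw [Subgroup.mem_centralizer_iff]
    intro y hy
    have hle : B ≤ Subgroup.centralizer ({qt} : Set Q) := sup_le
      (fun w hw => Subgroup.mem_centralizer_singleton_iff.mpr (hperp w hw).symm.eq)
      (Subgroup.zpowers_le.mpr (Subgroup.mem_centralizer_singleton_iff.mpr rfl))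
    exact Subgroup.mem_centralizer_singleton_iff.mp (hle hy)
  have hBab : ∀ x ∈ B, ∀ y ∈ B, Commute x y := fun x hx y hy => by
    have hle : B ≤ Subgroup.centralizer (B : Set Q) := sup_le hAC (Subgroup.zpowers_le.mpr hqC)
    exact ((Subgroup.mem_centralizer_iff.mp (hle hx)) y hy).symm
  have hlt : A < B := lt_of_le_of_ne le_sup_left fun h => hqA (h ▸
    Subgroup.mem_sup_right (Subgroup.mem_zpowers qt))
  have hdvd : Nat.card A ∣ Nat.card B := Subgroup.card_dvd_of_le hlt.le
  have hcardlt : Nat.card A < Nat.card B := by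
    by_contra hle
    exact hlt.ne (Subgroup.eq_of_le_of_card_ge hlt.le (not_lt.mp hle))
  have hB2 : 2 ^ 14 ≤ Nat.card B := by
    rw [hA] at hdvd hcardlt
    obtain ⟨m, hm⟩ := hdvd
    rcases m with _ | _ | m
    · omega
    · omega
    · rw [hm]; calc 2 ^ 14 = 2 ^ 13 * 2 := by norm_num
        _ ≤ _ := Nat.mul_le_mul_left _ (by omega)
  have h := MonsterCore.card_sq_le hcom hc2 B hBab
  rw [hS.2.2.2.1] at h
  have := Nat.mul_le_mul hB2 hB2
  norm_num at h this
  omega

end Cfsg.Agent.Lib.LeechMod2.MonsterPairing
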